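import Groth.Agent.Lib.CubeRel26.Main
import Groth.Agent.Lib.Cube.Square
import Groth.Agent.Lib.Rigidity.AbImage

/-!
# The cubical structure of invertible modules on abelian schemes
-/

set_option autoImplicit false
set_option linter.style.haveILetI false
set_option backward.isDefEq.respectTransparency false
universe u

noncomputable section

open CategoryTheory CategoryTheory.Limits Opposite TopologicalSpace AlgebraicGeometry
open MonoidalCategory CartesianMonoidalCategory MonObj
open GrothLib GrothLib.Ample GrothLib.Cube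

namespace GrothLib.CubeRel26

variable {S : Scheme.{u}} {X T P : Over S}

theorem pull_pull_over (σ : T ⟶ P) (f : P ⟶ X) (x : Pic X.left) :
    pull σ.left (pull f.left x) = pull (σ ≫ f).left x := by
  rw [pull_comp, Over.comp_left]

/-- Abelian schemes have geometrically integral fibres. -/
theorem geometricallyIntegral_abScheme (X : Over S) [GrpObj X] [IsProper X.hom]
    [GeometricallyReduced X.hom] [GeometricallyConnected X.hom] : GeometricallyIntegral X.hom := by
  refine ⟨fun K _ y W a b H => ?_⟩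
  let A' : Over (Spec (CommRingCat.of K)) := (Over.pullback y).obj X
  letI : GrpObj A' := inferInstanceAs (GrpObj ((Over.pullback y).obj X))
  haveI : IsProper A'.hom := inferInstanceAs (IsProper (pullback.snd X.hom y))
  haveI : GeometricallyReduced A'.hom := inferInstanceAs (GeometricallyReduced (pullback.snd X.hom y))
  haveI : GeometricallyConnected A'.hom := inferInstanceAs (GeometricallyConnected (pullback.snd X.hom y))
  haveI : ConnectedSpace A'.left := GeometricallyConnected.connectedSpace_of_subsingleton (f := A'.hom)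
  haveI := Rigidity.geometricallyIntegral_of_connected A'
  haveI : IsIntegral (pullback X.hom y) := GeometricallyIntegral.isIntegral_of_subsingleton A'.hom
  haveI : Nonempty W := ⟨H.isoPullback.inv (Classical.arbitrary _)⟩
  exact isIntegral_of_isOpenImmersion H.isoPullback.hom

variable [GrpObj X]

/-- The alternating combination of the theorem of the cube, with the constant term. -/
def cubeClassRel (f g h : T ⟶ X) (x : Pic X.left) : Pic T.left :=
  pull (f * g * h).left x * pull f.left x * pull g.left x * pull h.left x *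
    (pull (f * g).left x * pull (f * h).left x * pull (g * h).left x * pull (1 : T ⟶ X).left x)⁻¹

theorem pull_cubeClassRel (σ : P ⟶ T) (f g h : T ⟶ X) (x : Pic X.left) :
    pull σ.left (cubeClassRel f g h x) = cubeClassRel (σ ≫ f) (σ ≫ g) (σ ≫ h) x := by
  simp only [cubeClassRel, map_mul, map_inv, pull_pull_over, MonObj.comp_mul, MonObj.comp_one]

theorem cubeClassRel_degenerate (f g h : T ⟶ X) (x : Pic X.left) (H : f = 1 ∨ g = 1 ∨ h = 1) :
    cubeClassRel f g h x = 1 := by
  rcases H with rfl | rfl | rfl <;>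
    simp only [cubeClassRel, _root_.one_mul, _root_.mul_one, mul_inv_eq_one] <;> ac_rfl

set_option maxHeartbeats 1000000 in
/-- The theorem of the cube on an abelian scheme. -/
theorem cubeClassRel_eq_one [IsProper X.hom] [Flat X.hom] [LocallyOfFinitePresentation X.hom]
    [GeometricallyReduced X.hom] [GeometricallyConnected X.hom] (f g h : T ⟶ X) (x : Pic X.left) :
    cubeClassRel f g h x = 1 := by
  let p1 : (X ⊗ X) ⊗ X ⟶ X := fst (X ⊗ X) X ≫ fst X X
  let p2 : (X ⊗ X) ⊗ X ⟶ X := fst (X ⊗ X) X ≫ snd X X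
  let p3 : (X ⊗ X) ⊗ X ⟶ X := snd (X ⊗ X) X
  suffices huniv : cubeClassRel p1 p2 p3 x = 1 by
    have := congrArg (pull (lift (lift f g) h).left) huniv
    rw [map_one, pull_cubeClassRel] at this
    simpa [p1, p2, p3] using this
  haveI := geometricallyIntegral_abScheme X
  let e : S ⟶ X.left := (η[X] : 𝟙_ (Over S) ⟶ X).left
  have he : e ≫ X.hom = 𝟙 S := Over.w (η[X] : 𝟙_ (Over S) ⟶ X)
  obtain ⟨c, hc⟩ := Quotient.exists_rep (cubeClassRel p1 p2 p3 x)
  change cls c = cubeClassRel p1 p2 p3 x at hc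
  let L : (pullback (pullback.fst X.hom X.hom ≫ X.hom) X.hom).Modules := c.twist 1
  have hL : PicF.IsInvertible L := c.isInvertible_twist 1
  have hcls : clsMod hL = cubeClassRel p1 p2 p3 x := (clsMod_eq hL (Iso.refl _)).trans hc
  have wx : (X.hom ≫ e) ≫ X.hom = 𝟙 X.left ≫ X.hom := by simp [he]
  have wy : 𝟙 X.left ≫ X.hom = (X.hom ≫ e) ≫ X.hom := by simp [he]
  let sx : X ⊗ X ⟶ (X ⊗ X) ⊗ X := lift (toUnit X ≫ η[X]) (𝟙 X) ▷ X
  let sy : X ⊗ X ⟶ (X ⊗ X) ⊗ X := lift (𝟙 X) (toUnit X ≫ η[X]) ▷ X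
  have hfst : ∀ a : X ⟶ X ⊗ X, (a ▷ X).left ≫ pullback.fst (pullback.fst X.hom X.hom ≫ X.hom) X.hom =
      pullback.fst X.hom X.hom ≫ a.left := fun a => congrArg CategoryTheory.Over.Hom.left (whiskerRight_fst a X)
  have hsnd : ∀ a : X ⟶ X ⊗ X, (a ▷ X).left ≫ pullback.snd (pullback.fst X.hom X.hom ≫ X.hom) X.hom =
      pullback.snd X.hom X.hom := fun a => congrArg CategoryTheory.Over.Hom.left (whiskerRight_snd a X)
  have hs₁ : pullback.map (pullback.lift (X.hom ≫ e) (𝟙 X.left) wx ≫ (pullback.fst X.hom X.hom ≫ X.hom)) X.hom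
      (pullback.fst X.hom X.hom ≫ X.hom) X.hom (pullback.lift (X.hom ≫ e) (𝟙 X.left) wx) (𝟙 X.left) (𝟙 S)
      (Category.comp_id _) ((Category.comp_id _).trans (Category.id_comp _).symm) =
      (pullback.congrHom (pullback.lift_fst_assoc _ _ _ _ |>.trans (wx.trans (Category.id_comp _))) rfl).hom ≫ sx.left := by
    refine pullback.hom_ext (pullback.hom_ext ?_ ?_) ?_ <;> simp [sx, e, pullback.map, reassoc_of% hfst, hsnd]
  have hs₂ : pullback.map (pullback.lift (𝟙 X.left) (X.hom ≫ e) wy ≫ (pullback.fst X.hom X.hom ≫ X.hom)) X.hom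
      (pullback.fst X.hom X.hom ≫ X.hom) X.hom (pullback.lift (𝟙 X.left) (X.hom ≫ e) wy) (𝟙 X.left) (𝟙 S)
      (Category.comp_id _) ((Category.comp_id _).trans (Category.id_comp _).symm) =
      (pullback.congrHom (pullback.lift_fst_assoc _ _ _ _ |>.trans (Category.id_comp _)) rfl).hom ≫ sy.left := by
    refine pullback.hom_ext (pullback.hom_ext ?_ ?_) ?_ <;> simp [sy, e, pullback.map, reassoc_of% hfst, hsnd]
  obtain ⟨W, hW, hWz, hW'⟩ := exists_clopen_cube' X.hom X.hom X.hom e he e he L hL wx wy _ _ _ _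
    (by
      rw [hs₁, ← pull_comp, hcls]
      erw [pull_cubeClassRel, cubeClassRel_degenerate, map_one]
      left
      simp [sx, p1, Hom.one_def])
    (by
      rw [hs₂, ← pull_comp, hcls]
      erw [pull_cubeClassRel, cubeClassRel_degenerate, map_one]
      right; left
      simp [sy, p2, Hom.one_def])
  haveI : IsClosedImmersion e := by
    haveI : IsClosedImmersion (e ≫ X.hom) := by rw [he]; infer_instance
    exact IsClosedImmersion.of_comp e X.hom
  have hmem : ∀ s, e s ∈ W := by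
    intro s
    refine hWz _ ?_
    haveI : IsIso (e.residueFieldMap s) := by
      refine (ConcreteCategory.isIso_iff_bijective _).2 ⟨RingHom.injective _, fun y => ?_⟩
      obtain ⟨a, ha⟩ := IsLocalRing.residue_surjective (R := S.presheaf.stalk s) y
      obtain ⟨b, hb⟩ := e.stalkMap_surjective s a
      refine ⟨(X.left.residue (e s)).hom b, ?_⟩
      have h' := congrArg (fun k => (CommRingCat.Hom.hom k) b) (Scheme.residue_residueFieldMap e s)
      exact h'.trans ((congrArg (S.residue s).hom hb).trans ha)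
    let r := pullback.snd (pullback.fst X.hom X.hom ≫ X.hom) X.hom
    let m : r.fiber (e s) ⟶ (X ⊗ X).left := r.fiberι (e s) ≫ pullback.fst _ _
    let w := r.fiberToSpecResidueField (e s) ≫ CategoryTheory.inv (Spec.map (e.residueFieldMap s)) ≫
      S.fromSpecResidueField s
    have hw : r.fiberι (e s) ≫ r = w ≫ e := by
      rw [Category.assoc, Category.assoc, ← e.SpecMap_residueFieldMap_fromSpecResidueField s,
        IsIso.inv_hom_id_assoc]
      exact pullback.condition
    have hw2 : w = r.fiberι (e s) ≫ r ≫ X.hom := by rw [← Category.assoc, hw, Category.assoc, he, Category.comp_id]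
    have hfac : r.fiberι (e s) = m ≫ (lift (𝟙 (X ⊗ X)) (toUnit (X ⊗ X) ≫ η[X])).left := by
      refine pullback.hom_ext ?_ ?_
      · simp [m]
      · simp only [m, Category.assoc]
        erw [hw]
        simp [hw2, e, r]
        rw [← pullback.condition_assoc]
        simp
    rw [hfac, ← pull_comp, hcls]
    erw [pull_cubeClassRel, cubeClassRel_degenerate, map_one]
    right; right
    simp [p3, Hom.one_def]
  obtain rfl : W = ⊤ := by
    refine top_le_iff.1 fun y _ => ?_
    let s := X.hom y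
    haveI : GeometricallyConnected (X.hom.fiberToSpecResidueField s) :=
      inferInstanceAs (GeometricallyConnected (pullback.snd X.hom (S.fromSpecResidueField s)))
    haveI : ConnectedSpace ↥(X.hom.fiber s) :=
      GeometricallyConnected.connectedSpace_of_subsingleton (f := X.hom.fiberToSpecResidueField s)
    have hcl : IsClopen (X.hom.fiberι s ⁻¹' (W : Set X.left)) :=
      ⟨hW.preimage (X.hom.fiberι s).continuous, W.isOpen.preimage (X.hom.fiberι s).continuous⟩
    obtain ⟨a, ha⟩ : e s ∈ Set.range (X.hom.fiberι s) := by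
      rw [Scheme.Hom.range_fiberι]
      show (e ≫ X.hom) s = s
      rw [he]; rfl
    obtain ⟨b, hb⟩ : y ∈ Set.range (X.hom.fiberι s) := by rw [Scheme.Hom.range_fiberι]; rfl
    have := hcl.eq_univ ⟨a, by show _ ∈ W; rw [ha]; exact hmem s⟩
    have h2 : b ∈ X.hom.fiberι s ⁻¹' (W : Set X.left) := this ▸ Set.mem_univ b
    exact hb ▸ h2
  have h := congrArg (pull (Scheme.topIso (pullback (pullback.fst X.hom X.hom ≫ X.hom) X.hom)).inv) hW'
  rw [map_one] at h
  have h' : pull ((Scheme.topIso (pullback (pullback.fst X.hom X.hom ≫ X.hom) X.hom)).inv ≫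
      (⊤ : (pullback (pullback.fst X.hom X.hom ≫ X.hom) X.hom).Opens).ι) (clsMod hL) = 1 :=
    (pull_comp _ _ _).symm.trans h
  rw [show (Scheme.topIso (pullback (pullback.fst X.hom X.hom ≫ X.hom) X.hom)).inv ≫
    (⊤ : (pullback (pullback.fst X.hom X.hom ≫ X.hom) X.hom).Opens).ι = 𝟙 _ from (Scheme.topIso _).inv_hom_id,
    pull_id, hcls] at h'
  exact h'

theorem quadratic_zpow {G : Type*} [AddCommGroup G] (a b o : G) (x : ℤ → G) (h0 : x 0 = o) (h1 : x 1 = a)
    (hstep : ∀ n, x n + x n + a + b = x (n + 1) + x (n - 1) + o + o) (n : ℤ) :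
    x n = ((n ^ 2 + n) / 2) • a + ((n ^ 2 - n) / 2) • b + (1 - n ^ 2) • o := by
  have hA : ∀ n : ℤ, (2 : ℤ) * ((n ^ 2 + n) / 2) = n ^ 2 + n := fun n =>
    Int.mul_ediv_cancel' (by
      rw [show n ^ 2 + n = n * (n + 1) by ring]; exact (Int.even_mul_succ_self n).two_dvd)
  have hB : ∀ n : ℤ, (2 : ℤ) * ((n ^ 2 - n) / 2) = n ^ 2 - n := fun n =>
    Int.mul_ediv_cancel' (by
      rw [show n ^ 2 - n = (n - 1) * (n - 1 + 1) by ring]; exact (Int.even_mul_succ_self _).two_dvd)
  suffices ∀ n : ℤ, x n = ((n ^ 2 + n) / 2) • a + ((n ^ 2 - n) / 2) • b + (1 - n ^ 2) • o ∧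
      x (n + 1) = (((n + 1) ^ 2 + (n + 1)) / 2) • a + (((n + 1) ^ 2 - (n + 1)) / 2) • b + (1 - (n + 1) ^ 2) • o from
    (this n).1
  intro n
  induction n using Int.induction_on with
  | zero => simp [h0, h1]
  | succ m ih =>
    refine ⟨ih.2, ?_⟩
    have h := hstep ((m : ℤ) + 1)
    rw [show (m : ℤ) + 1 - 1 = m by ring, ih.1, ih.2] at h
    have e1 := hA m; have e2 := hA ((m : ℤ) + 1); have e3 := hA ((m : ℤ) + 1 + 1)
    have f1 := hB m; have f2 := hB ((m : ℤ) + 1); have f3 := hB ((m : ℤ) + 1 + 1)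
    generalize ((m : ℤ) ^ 2 + m) / 2 = A1 at *
    generalize (((m : ℤ) + 1) ^ 2 + (m + 1)) / 2 = A2 at *
    generalize (((m : ℤ) + 1 + 1) ^ 2 + (m + 1 + 1)) / 2 = A3 at *
    generalize ((m : ℤ) ^ 2 - m) / 2 = B1 at *
    generalize (((m : ℤ) + 1) ^ 2 - (m + 1)) / 2 = B2 at *
    generalize (((m : ℤ) + 1 + 1) ^ 2 - (m + 1 + 1)) / 2 = B3 at *
    obtain rfl : A3 = 2 * A2 + 1 - A1 := by linarith
    obtain rfl : B3 = 2 * B2 + 1 - B1 := by linarith
    linear_combination (norm := module) -h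
  | pred m ih =>
    refine ⟨?_, by rw [show -(m : ℤ) - 1 + 1 = -(m : ℤ) by ring]; exact ih.1⟩
    have h := hstep (-(m : ℤ))
    rw [ih.1, ih.2] at h
    have e1 := hA (-(m : ℤ) - 1); have e2 := hA (-(m : ℤ)); have e3 := hA (-(m : ℤ) + 1)
    have f1 := hB (-(m : ℤ) - 1); have f2 := hB (-(m : ℤ)); have f3 := hB (-(m : ℤ) + 1)
    generalize ((-(m : ℤ) - 1) ^ 2 + (-(m : ℤ) - 1)) / 2 = A1 at *
    generalize ((-(m : ℤ)) ^ 2 + -(m : ℤ)) / 2 = A2 at *
    generalize ((-(m : ℤ) + 1) ^ 2 + (-(m : ℤ) + 1)) / 2 = A3 at *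
    generalize ((-(m : ℤ) - 1) ^ 2 - (-(m : ℤ) - 1)) / 2 = B1 at *
    generalize ((-(m : ℤ)) ^ 2 - -(m : ℤ)) / 2 = B2 at *
    generalize ((-(m : ℤ) + 1) ^ 2 - (-(m : ℤ) + 1)) / 2 = B3 at *
    obtain rfl : A1 = 2 * A2 + 1 - A3 := by linarith
    obtain rfl : B1 = 2 * B2 + 1 - B3 := by linarith
    linear_combination (norm := module) -h

/-- The pullback by multiplication by `n`. -/
theorem pull_zpow [IsProper X.hom] [Flat X.hom] [LocallyOfFinitePresentation X.hom]
    [GeometricallyReduced X.hom] [GeometricallyConnected X.hom] (x : Pic X.left) (n : ℤ) :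
    pull (𝟙 X ^ n).left x = pull (𝟙 X ^ (1 : ℤ)).left x ^ ((n ^ 2 + n) / 2) *
      pull (𝟙 X ^ (-1 : ℤ)).left x ^ ((n ^ 2 - n) / 2) * pull (1 : X ⟶ X).left x ^ (1 - n ^ 2) := by
  refine Additive.ofMul.injective ?_
  simp only [ofMul_mul, ofMul_zpow]
  refine quadratic_zpow _ _ _ (fun m => Additive.ofMul (pull (𝟙 X ^ m).left x)) (by simp) rfl (fun m => ?_) n
  have h := cubeClassRel_eq_one (𝟙 X ^ m) (𝟙 X ^ (1 : ℤ)) (𝟙 X ^ (-1 : ℤ)) x
  rw [cubeClassRel, mul_inv_eq_one, ← zpow_add, ← zpow_add, ← zpow_add, ← zpow_add] at h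
  rw [show m + 1 + -1 = m by ring, show (1 : ℤ) + -1 = 0 by norm_num, zpow_zero] at h
  simpa [ofMul_mul, sub_eq_add_neg] using congrArg Additive.ofMul h

end GrothLib.CubeRel26
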