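import Groth.Agent.Lib.Cube.Base
import Mathlib.AlgebraicGeometry.Geometrically.Integral
import Mathlib.AlgebraicGeometry.Morphisms.UniversallyOpen

/-!
# Geometric integrality of composites, and pullbacks of cochains
-/

universe u

open CategoryTheory CategoryTheory.Limits Opposite TopologicalSpace AlgebraicGeometry
open GrothLib GrothLib.Ample GrothLib.Cube

set_option backward.isDefEq.respectTransparency false

noncomputable section

namespace GrothLib.CubeRel26

/-- Composites of flat geometrically integral morphisms of finite presentation are geometrically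
integral. -/
theorem geometricallyIntegral_comp {X Y S : Scheme.{u}} (f : X ⟶ Y) (g : Y ⟶ S) [Flat f] [Flat g]
    [LocallyOfFinitePresentation f] [LocallyOfFinitePresentation g] [GeometricallyIntegral f]
    [GeometricallyIntegral g] : GeometricallyIntegral (f ≫ g) := by
  refine ⟨fun K _ y Z a b H => ?_⟩
  haveI : LocallyOfFiniteType (pullback.snd g y) := MorphismProperty.pullback_snd g y inferInstance
  haveI : IsLocallyNoetherian (Spec (CommRingCat.of K)) := inferInstance
  haveI : IsLocallyNoetherian (pullback g y) := LocallyOfFiniteType.isLocallyNoetherian (pullback.snd g y)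
  haveI : IsIntegral (pullback g y) := inferInstance
  haveI : IsIntegral (pullback f (pullback.fst g y)) := inferInstance
  let e := H.isoPullback ≪≫ (pullbackRightPullbackFstIso g y f).symm
  haveI : Nonempty Z := ⟨e.inv (Classical.arbitrary _)⟩
  exact isIntegral_of_isOpenImmersion e.hom

/-- A coboundary on a slice stays one after a further pullback. -/
theorem sCob_spull {P P' P'' : Scheme.{u}} {κ : Type u} {W : κ → P.Opens} {h : ∀ a b, Γ(P, W a ⊓ W b)}
    (i : P'' ⟶ P') {j : P' ⟶ P} (hs : SCob (fun a => j ⁻¹ᵁ W a) (spull j W h)) :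
    SCob (fun a => (i ≫ j) ⁻¹ᵁ W a) (spull (i ≫ j) W h) := by
  obtain ⟨v, hv⟩ := hs
  refine ⟨fun a => (i.app (j ⁻¹ᵁ W a)).hom (v a), fun a b => ?_⟩
  rw [← spull_spull i j]
  show (i.appLE _ _ _).hom (spull j W h a b) = _
  rw [hv a b, map_sub, appLE_res, appLE_res]
  simp only [Scheme.Hom.app_eq_appLE, res_appLE]
  exact (congrArg₂ (· - ·) (res_appLE i _ _ _) (res_appLE i _ _ _)).symm

end GrothLib.CubeRel26
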