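import Groth.Agent.Lib.Cube.Step
import Groth.Agent.Lib.PthRoot26.Basic
import Mathlib.RingTheory.Flat.EquationalCriterion

/-!
# Functions on flat schemes over a small extension
-/

universe u

open CategoryTheory CategoryTheory.Limits Opposite TopologicalSpace AlgebraicGeometry
open GrothLib GrothLib.Ample GrothLib.Cube

set_option backward.isDefEq.respectTransparency false

noncomputable section

namespace GrothLib.CubeRel26

variable {B L : Type u} [CommRing B] [CommRing L] {φ : B →+* L} {π : B}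
  {P P₀ : Scheme.{u}} {f : P ⟶ Spec (CommRingCat.of B)} {j₀ : P₀ ⟶ P}
  {p₀ : P₀ ⟶ Spec (CommRingCat.of L)}

/-- Functions on an affine open vanishing on a closed fibre lie in the ideal of the fibre. -/
theorem mem_map_of_app_eq_zero (H : IsPullback j₀ p₀ f (Spec.map (CommRingCat.ofHom φ)))
    (hφ : Function.Surjective φ) {V : P.Opens} (hV : IsAffineOpen V) (x : Γ(P, V))
    (hx : (j₀.app V).hom x = 0) : x ∈ (RingHom.ker φ).map (cst f V) := by
  let I : Ideal Γ(P, V) := (RingHom.ker φ).map (cst f V)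
  let mkI : Γ(P, V) →+* Γ(P, V) ⧸ I := Ideal.Quotient.mk I
  have hkI : RingHom.ker φ ≤ RingHom.ker (mkI.comp (cst f V)) := fun r hr => by
    rw [RingHom.mem_ker]
    exact Ideal.Quotient.eq_zero_iff_mem.2 (Ideal.mem_map_of_mem _ hr)
  let ψ : L →+* Γ(P, V) ⧸ I := RingHom.liftOfSurjective φ hφ ⟨mkI.comp (cst f V), hkI⟩
  have hψ : ψ.comp φ = mkI.comp (cst f V) := RingHom.liftOfRightInverse_comp _ _ _ _
  have hP : IsPushout (f.appLE ⊤ V le_top) ((Spec.map (CommRingCat.ofHom φ)).appLE ⊤ ⊤ le_top)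
      (j₀.appLE V (j₀ ⁻¹ᵁ V) le_rfl) (p₀.appLE ⊤ (j₀ ⁻¹ᵁ V) le_top) :=
    (AlgebraicGeometry.isIso_pushoutSection_iff H (US := ⊤) (UT := ⊤) (UX := V) (UY := j₀ ⁻¹ᵁ V) le_top le_top
      (by simp)).1 (AlgebraicGeometry.isIso_pushoutSection_of_isAffineOpen H le_top le_top (by simp)
        (isAffineOpen_top _) (isAffineOpen_top _) hV)
  let right : Γ(Spec (CommRingCat.of L), ⊤) ⟶ CommRingCat.of (Γ(P, V) ⧸ I) :=
    (Scheme.ΓSpecIso (CommRingCat.of L)).hom ≫ CommRingCat.ofHom ψ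
  have hw : f.appLE ⊤ V le_top ≫ CommRingCat.ofHom mkI =
      (Spec.map (CommRingCat.ofHom φ)).appLE ⊤ ⊤ le_top ≫ right := by
    rw [← cancel_epi (Scheme.ΓSpecIso (CommRingCat.of B)).inv]
    have e1 : (Spec.map (CommRingCat.ofHom φ)).appLE ⊤ ⊤ le_top = (Spec.map (CommRingCat.ofHom φ)).appTop :=
      Scheme.Hom.appLE_eq_app _
    rw [e1, ← Scheme.ΓSpecIso_inv_naturality_assoc, Iso.inv_hom_id_assoc]
    exact CommRingCat.hom_ext hψ.symm
  let d := hP.desc (CommRingCat.ofHom mkI) right hw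
  have h1 := congrArg (fun g => (CommRingCat.Hom.hom g) x) (hP.inl_desc (CommRingCat.ofHom mkI) right hw)
  refine Ideal.Quotient.eq_zero_iff_mem.1 (h1.symm.trans ?_)
  show d.hom ((j₀.appLE V (j₀ ⁻¹ᵁ V) le_rfl).hom x) = 0
  rw [← Scheme.Hom.app_eq_appLE, hx, map_zero]

variable (hann : ∀ b, φ b = 0 ↔ π * b = 0)
include hann

/-- Functions vanishing on the fibre are killed by the parameter. -/
theorem cst_mul_eq_zero (H : IsPullback j₀ p₀ f (Spec.map (CommRingCat.ofHom φ))) (hφ : Function.Surjective φ)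
    {V : P.Opens} {V₀ : P₀.Opens} (e : V₀ ≤ j₀ ⁻¹ᵁ V) (e' : j₀ ⁻¹ᵁ V ≤ V₀) {x : Γ(P, V)}
    (hx : (j₀.appLE V V₀ e).hom x = 0) : cst f V π * x = 0 := by
  refine eq_of_cover (fun W : {W : P.affineOpens // W.1 ≤ V} => W.1.1) (fun W => W.2) (fun y hy => ?_) fun W => ?_
  · obtain ⟨W, hW, hyW, hWV⟩ := exists_isAffineOpen_mem_and_subset hy
    exact Opens.mem_iSup.2 ⟨⟨⟨W, hW⟩, hWV⟩, hyW⟩
  · rw [map_mul, res_cst, map_zero]
    have h0 : (j₀.app W.1.1).hom (res W.2 x) = 0 := by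
      have := congrArg (res ((j₀.preimage_mono W.2).trans e')) hx
      rw [res_appLE, map_zero] at this
      rw [Scheme.Hom.app_eq_appLE, appLE_res]
      exact this
    refine Submodule.span_induction ?_ ?_ ?_ ?_ (mem_map_of_app_eq_zero H hφ W.1.2 _ h0)
    · rintro _ ⟨r, hr, rfl⟩
      rw [← map_mul, (hann r).1 hr, map_zero]
    · exact mul_zero _
    · intro a b _ _ ha hb
      rw [mul_add, ha, hb, add_zero]
    · intro a b _ hb
      rw [smul_eq_mul, mul_left_comm, hb, mul_zero]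

/-- Functions on a flat scheme killed by the parameter vanish on the fibre. -/
theorem appLE_eq_zero [Flat f] (H : IsPullback j₀ p₀ f (Spec.map (CommRingCat.ofHom φ)))
    {V : P.Opens} {V₀ : P₀.Opens} (e : V₀ ≤ j₀ ⁻¹ᵁ V) {x : Γ(P, V)} (hx : cst f V π * x = 0) :
    (j₀.appLE V V₀ e).hom x = 0 := by
  refine eq_of_cover (fun W : {W : P.affineOpens // W.1 ≤ V} => j₀ ⁻¹ᵁ W.1.1 ⊓ V₀) (fun W => inf_le_right)
    (fun y hy => ?_) fun W => ?_
  · obtain ⟨W, hW, hyW, hWV⟩ := exists_isAffineOpen_mem_and_subset (show j₀.base y ∈ V from e hy)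
    exact Opens.mem_iSup.2 ⟨⟨⟨W, hW⟩, hWV⟩, hyW, hy⟩
  · rw [res_appLE, map_zero, ← appLE_res j₀ W.2 inf_le_left]
    have hf := f.flat_appLE (isAffineOpen_top _) W.1.2 le_top
    algebraize [(f.appLE ⊤ W.1.1 le_top).hom]
    have hrel : ∑ _i : Fin 1, (Scheme.ΓSpecIso (CommRingCat.of B)).inv.hom π • res W.2 x = 0 := by
      rw [Fin.sum_univ_one, Algebra.smul_def]
      show cst f W.1.1 π * res W.2 x = 0
      rw [← res_cst f W.2, ← map_mul, hx, map_zero]
    obtain ⟨k, a, y, hy, ha⟩ := Module.Flat.isTrivialRelation_of_sum_smul_eq_zero (R := Γ(Spec (CommRingCat.of B), ⊤)) (M := Γ(P, W.1.1)) hrel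
    have hy0 : res W.2 x = ∑ l, a 0 l • y l := hy 0
    rw [hy0, map_sum]
    refine Finset.sum_eq_zero fun l _ => ?_
    rw [Algebra.smul_def, map_mul]
    obtain ⟨b, hb⟩ : ∃ b, (Scheme.ΓSpecIso (CommRingCat.of B)).inv.hom b = a 0 l :=
      (Scheme.ΓSpecIso (CommRingCat.of B)).symm.commRingCatIsoToRingEquiv.surjective _
    have hπb : π * b = 0 := by
      have h1 := ha l
      rw [Fin.sum_univ_one, ← hb, ← map_mul] at h1
      exact (Scheme.ΓSpecIso (CommRingCat.of B)).symm.commRingCatIsoToRingEquiv.injective (h1.trans (map_zero _).symm)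
    rw [← hb, show algebraMap _ Γ(P, W.1.1) ((Scheme.ΓSpecIso (CommRingCat.of B)).inv.hom b) = cst f W.1.1 b from rfl,
      cst_fibre_eq_zero H ((hann b).2 hπb), zero_mul]

end GrothLib.CubeRel26
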