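import Groth.Agent.Lib.CubeRel26.Open
import Groth.Agent.Lib.CubeRel26.Comp
import Groth.Agent.Lib.Cube.Generic
import Groth.Agent.Lib.Cube.Kunneth

/-!
# The relative theorem of the cube
-/

set_option autoImplicit false
set_option linter.style.haveILetI false
set_option backward.isDefEq.respectTransparency false
universe u

noncomputable section

open CategoryTheory CategoryTheory.Limits Opposite TopologicalSpace AlgebraicGeometry
open MonoidalCategory CartesianMonoidalCategory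
open GrothLib GrothLib.Ample GrothLib.Cube

namespace GrothLib.CubeRel26

variable {S X Y Z : Scheme.{u}} (pX : X ⟶ S) (pY : Y ⟶ S) (pZ : Z ⟶ S)

/-- A slice of a base change. -/
theorem slice_isPullback {R : Scheme.{u}} {q : X ⟶ S} (a : R ⟶ X)
    (h₁ : (a ≫ q) ≫ 𝟙 S = a ≫ q) (h₂ : pZ ≫ 𝟙 S = 𝟙 Z ≫ pZ) :
    IsPullback (pullback.fst (a ≫ q) pZ) (pullback.map (a ≫ q) pZ q pZ a (𝟙 Z) (𝟙 S) h₁ h₂) a
      (pullback.fst q pZ) :=
  IsPullback.of_bot (v₁₁ := pullback.map (a ≫ q) pZ q pZ a (𝟙 Z) (𝟙 S) h₁ h₂) (v₂₁ := pullback.snd q pZ)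
    (v₁₂ := a) (v₂₂ := q) (by
      rw [pullback.lift_snd, Category.comp_id]
      exact IsPullback.of_hasPullback (a ≫ q) pZ)
    (pullback.lift_fst _ _ _).symm (IsPullback.of_hasPullback q pZ)

/-- A point of a fibre coming from a slice lifts to the fibre of the slice. -/
theorem exists_sliceLift {R M T : Scheme.{u}} {q : X ⟶ S} (a : R ⟶ X)
    (h₁ : (a ≫ q) ≫ 𝟙 S = a ≫ q) (h₂ : pZ ≫ 𝟙 S = 𝟙 Z ≫ pZ) (g : T ⟶ Z)
    (m : M ⟶ pullback (pullback.snd q pZ) g) (k : M ⟶ R)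
    (hk : k ≫ a = m ≫ pullback.fst _ g ≫ pullback.fst q pZ) :
    ∃ l, l ≫ sliceMap (pullback.snd q pZ) (pullback.map (a ≫ q) pZ q pZ a (𝟙 Z) (𝟙 S) h₁ h₂) g = m := by
  refine ⟨pullback.lift (pullback.lift k (m ≫ pullback.fst _ g ≫ pullback.snd q pZ) ?_) (m ≫ pullback.snd _ g) ?_, ?_⟩
  · rw [← Category.assoc, hk]; simp [pullback.condition, pullback.condition_assoc]
  · simp [pullback.condition]
  · refine pullback.hom_ext (pullback.hom_ext ?_ ?_) ?_
    · simp [sliceMap, hk]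
    · simp [sliceMap]
    · simp [sliceMap]

/-- The fibre of a triple product is the product of the fibres. -/
theorem exists_fibreIso {T : Scheme.{u}} (g : T ⟶ Z) :
    ∃ e : pullback (pullback.snd pX (g ≫ pZ)) (pullback.snd pY (g ≫ pZ)) ⟶
        pullback (pullback.snd (pullback.fst pX pY ≫ pX) pZ) g, IsIso e ∧
      e ≫ pullback.fst _ g ≫ pullback.fst _ pZ ≫ pullback.fst pX pY = pullback.fst _ _ ≫ pullback.fst pX _ ∧
      e ≫ pullback.fst _ g ≫ pullback.fst _ pZ ≫ pullback.snd pX pY = pullback.snd _ _ ≫ pullback.fst pY _ := by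
  let e : pullback (pullback.snd pX (g ≫ pZ)) (pullback.snd pY (g ≫ pZ)) ⟶
      pullback (pullback.snd (pullback.fst pX pY ≫ pX) pZ) g :=
    pullback.lift
      (pullback.lift
        (pullback.lift (pullback.fst _ _ ≫ pullback.fst pX _) (pullback.snd _ _ ≫ pullback.fst pY _) (by
          simp only [Category.assoc, pullback.condition]
          exact (reassoc_of% (pullback.condition (f := pullback.snd pX (g ≫ pZ)) (g := pullback.snd pY (g ≫ pZ)))) (g ≫ pZ)))
        (pullback.fst _ _ ≫ pullback.snd pX _ ≫ g) (by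
          simp only [pullback.lift_fst_assoc, Category.assoc]
          rw [pullback.condition]))
      (pullback.fst _ _ ≫ pullback.snd pX _) (by simp)
  let i : pullback (pullback.snd (pullback.fst pX pY ≫ pX) pZ) g ⟶
      pullback (pullback.snd pX (g ≫ pZ)) (pullback.snd pY (g ≫ pZ)) :=
    pullback.lift
      (pullback.lift (pullback.fst _ g ≫ pullback.fst _ pZ ≫ pullback.fst pX pY) (pullback.snd _ g) (by
        simp only [Category.assoc]
        rw [← pullback.condition_assoc,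
          show pullback.fst (pullback.fst pX pY ≫ pX) pZ ≫ pullback.fst pX pY ≫ pX = _ from pullback.condition]))
      (pullback.lift (pullback.fst _ g ≫ pullback.fst _ pZ ≫ pullback.snd pX pY) (pullback.snd _ g) (by
        simp only [Category.assoc]
        rw [← pullback.condition_assoc, ← pullback.condition,
          show pullback.fst (pullback.fst pX pY ≫ pX) pZ ≫ pullback.fst pX pY ≫ pX = _ from pullback.condition]))
      (by simp)
  refine ⟨e, ⟨i, ?_, ?_⟩, by simp [e], by simp [e]⟩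
  · refine pullback.hom_ext (pullback.hom_ext ?_ ?_) (pullback.hom_ext ?_ ?_)
    · simp [e, i]
    · simp [e, i]
    · simp [e, i]
    · simp [e, i, pullback.condition]
  · refine pullback.hom_ext (pullback.hom_ext (pullback.hom_ext ?_ ?_) ?_) ?_
    · simp [e, i]
    · simp [e, i]
    · simp [e, i]; exact pullback.condition.symm
    · simp [e, i]

theorem sCob_spull_comp {A A' A'' : Scheme.{u}} {κ : Type u} {U : κ → A.Opens} {s : ∀ a b, Γ(A, U a ⊓ U b)}
    (i : A'' ⟶ A') (j : A' ⟶ A) (hs : SCob (fun a => (i ≫ j) ⁻¹ᵁ U a) (spull (i ≫ j) U s)) :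
    SCob (fun a => i ⁻¹ᵁ (j ⁻¹ᵁ U a)) (spull i (fun a => j ⁻¹ᵁ U a) (spull j U s)) := by
  rw [spull_spull]; exact hs

variable [Flat pX] [IsProper pX] [LocallyOfFinitePresentation pX] [GeometricallyIntegral pX]
  [Flat pY] [IsProper pY] [LocallyOfFinitePresentation pY] [GeometricallyIntegral pY]
  (x : S ⟶ X) (hx : x ≫ pX = 𝟙 S) (y : S ⟶ Y) (hy : y ≫ pY = 𝟙 S)

set_option maxHeartbeats 1000000 in
include hx hy in
/-- Coboundaries are detected on the two slices of a fibre. -/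
theorem sCob_fibre (wx : (pY ≫ x) ≫ pX = 𝟙 Y ≫ pY) (wy : 𝟙 X ≫ pX = (pX ≫ y) ≫ pY)
    (hq₁ : (pullback.lift (pY ≫ x) (𝟙 Y) wx ≫ (pullback.fst pX pY ≫ pX)) ≫ 𝟙 S =
      pullback.lift (pY ≫ x) (𝟙 Y) wx ≫ (pullback.fst pX pY ≫ pX))
    (hq₂ : (pullback.lift (𝟙 X) (pX ≫ y) wy ≫ (pullback.fst pX pY ≫ pX)) ≫ 𝟙 S =
      pullback.lift (𝟙 X) (pX ≫ y) wy ≫ (pullback.fst pX pY ≫ pX))
    (hz₁ hz₂ : pZ ≫ 𝟙 S = 𝟙 Z ≫ pZ) {K : Type u} [Field K] (g : Spec (CommRingCat.of K) ⟶ Z) {κ : Type u}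
    {U : κ → (pullback (pullback.snd (pullback.fst pX pY ≫ pX) pZ) g).Opens} (hU : ⨆ a, U a = ⊤)
    (s : ∀ a b, Γ(pullback (pullback.snd (pullback.fst pX pY ≫ pX) pZ) g, U a ⊓ U b)) (hs : SCoc U s)
    (hs₁ : SCob (fun a => sliceMap (pullback.snd (pullback.fst pX pY ≫ pX) pZ)
        (pullback.map _ pZ _ pZ (pullback.lift (pY ≫ x) (𝟙 Y) wx) (𝟙 Z) (𝟙 S) hq₁ hz₁) g ⁻¹ᵁ U a)
      (spull (sliceMap (pullback.snd (pullback.fst pX pY ≫ pX) pZ)
        (pullback.map _ pZ _ pZ (pullback.lift (pY ≫ x) (𝟙 Y) wx) (𝟙 Z) (𝟙 S) hq₁ hz₁) g) U s))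
    (hs₂ : SCob (fun a => sliceMap (pullback.snd (pullback.fst pX pY ≫ pX) pZ)
        (pullback.map _ pZ _ pZ (pullback.lift (𝟙 X) (pX ≫ y) wy) (𝟙 Z) (𝟙 S) hq₂ hz₂) g ⁻¹ᵁ U a)
      (spull (sliceMap (pullback.snd (pullback.fst pX pY ≫ pX) pZ)
        (pullback.map _ pZ _ pZ (pullback.lift (𝟙 X) (pX ≫ y) wy) (𝟙 Z) (𝟙 S) hq₂ hz₂) g) U s)) :
    SCob U s := by
  obtain ⟨e, he, hef, hes⟩ := exists_fibreIso pX pY pZ g
  haveI := he
  refine sCob_of_spull_isIso (j := e) ?_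
  let gS := g ≫ pZ
  let XK : Over (Spec (CommRingCat.of K)) := Over.mk (pullback.snd pX gS)
  let YK : Over (Spec (CommRingCat.of K)) := Over.mk (pullback.snd pY gS)
  haveI : IsProper XK.hom := MorphismProperty.pullback_snd pX gS inferInstance
  haveI : GeometricallyIntegral XK.hom := MorphismProperty.pullback_snd pX gS inferInstance
  haveI : IsProper YK.hom := MorphismProperty.pullback_snd pY gS inferInstance
  haveI : GeometricallyIntegral YK.hom := MorphismProperty.pullback_snd pY gS inferInstance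
  let x₀ : 𝟙_ _ ⟶ XK := Over.homMk
    (pullback.lift (gS ≫ x) (𝟙 _) (by rw [Category.assoc, hx, Category.comp_id, Category.id_comp]))
    (pullback.lift_snd _ _ _)
  let y₀ : 𝟙_ _ ⟶ YK := Over.homMk
    (pullback.lift (gS ≫ y) (𝟙 _) (by rw [Category.assoc, hy, Category.comp_id, Category.id_comp]))
    (pullback.lift_snd _ _ _)
  let e' : (XK ⊗ YK).left ⟶ pullback (pullback.snd (pullback.fst pX pY ≫ pX) pZ) g := e
  obtain ⟨lx, hlx⟩ := exists_sliceLift pZ (pullback.lift (pY ≫ x) (𝟙 Y) wx) hq₁ hz₁ g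
    ((lift (toUnit YK ≫ x₀) (𝟙 YK)).left ≫ e') (pullback.fst pY gS) (by
      refine pullback.hom_ext ?_ ?_
      · simp only [Category.assoc, pullback.lift_fst]
        erw [hef]
        simp [x₀, XK, YK, gS]
        exact (reassoc_of% (pullback.condition (f := pY) (g := g ≫ pZ))) x
      · simp only [Category.assoc, pullback.lift_snd]
        erw [hes]
        simp [x₀, XK, YK, gS]
        try exact (Category.id_comp _).symm)
  obtain ⟨ly, hly⟩ := exists_sliceLift pZ (pullback.lift (𝟙 X) (pX ≫ y) wy) hq₂ hz₂ g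
    ((lift (𝟙 XK) (toUnit XK ≫ y₀)).left ≫ e') (pullback.fst pX gS) (by
      refine pullback.hom_ext ?_ ?_
      · simp only [Category.assoc, pullback.lift_fst]
        erw [hef]
        simp [y₀, XK, YK, gS]
        try exact (Category.id_comp _).symm
      · simp only [Category.assoc, pullback.lift_snd]
        erw [hes]
        simp [y₀, XK, YK, gS]
        exact (reassoc_of% (pullback.condition (f := pX) (g := g ≫ pZ))) y)
  exact sCob_of_axes (X := XK) (Y := YK) (isAntiAffine_of_proper (X := XK) x₀)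
    (surjective_appTop_of_isAntiAffine (isAntiAffine_of_proper (X := YK) y₀)) x₀ y₀
    (W := fun a => e' ⁻¹ᵁ U a) (h := spull e' U s)
    (by rw [← Scheme.Hom.preimage_iSup, hU]; rfl) (sCoc_spull hs e')
    (sCob_spull_comp _ e' ((sCob_spull_congr hlx).1 (sCob_spull lx hs₁)))
    (sCob_spull_comp _ e' ((sCob_spull_congr hly).1 (sCob_spull ly hs₂)))

set_option maxHeartbeats 1000000 in
include hx hy in
/-- A bundle trivial on both slices is trivial over a clopen set containing all trivial fibres. -/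
theorem exists_clopen_cube' (L : (pullback (pullback.fst pX pY ≫ pX) pZ).Modules) (hL : PicF.IsInvertible L)
    (wx : (pY ≫ x) ≫ pX = 𝟙 Y ≫ pY) (wy : 𝟙 X ≫ pX = (pX ≫ y) ≫ pY)
    (hq₁ : (pullback.lift (pY ≫ x) (𝟙 Y) wx ≫ (pullback.fst pX pY ≫ pX)) ≫ 𝟙 S =
      pullback.lift (pY ≫ x) (𝟙 Y) wx ≫ (pullback.fst pX pY ≫ pX))
    (hq₂ : (pullback.lift (𝟙 X) (pX ≫ y) wy ≫ (pullback.fst pX pY ≫ pX)) ≫ 𝟙 S =
      pullback.lift (𝟙 X) (pX ≫ y) wy ≫ (pullback.fst pX pY ≫ pX))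
    (hz₁ hz₂ : pZ ≫ 𝟙 S = 𝟙 Z ≫ pZ)
    (h₁ : pull (pullback.map (pullback.lift (pY ≫ x) (𝟙 Y) wx ≫ (pullback.fst pX pY ≫ pX)) pZ
      (pullback.fst pX pY ≫ pX) pZ (pullback.lift (pY ≫ x) (𝟙 Y) wx) (𝟙 Z) (𝟙 S) hq₁ hz₁) (clsMod hL) = 1)
    (h₂ : pull (pullback.map (pullback.lift (𝟙 X) (pX ≫ y) wy ≫ (pullback.fst pX pY ≫ pX)) pZ
      (pullback.fst pX pY ≫ pX) pZ (pullback.lift (𝟙 X) (pX ≫ y) wy) (𝟙 Z) (𝟙 S) hq₂ hz₂) (clsMod hL) = 1)
    : ∃ W : Z.Opens, IsClosed (W : Set Z) ∧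
      (∀ z, pull ((pullback.snd (pullback.fst pX pY ≫ pX) pZ).fiberι z) (clsMod hL) = 1 → z ∈ W) ∧
      pull ((pullback.snd (pullback.fst pX pY ≫ pX) pZ) ⁻¹ᵁ W).ι (clsMod hL) = 1 := by
  let q : pullback pX pY ⟶ S := pullback.fst pX pY ≫ pX
  let ax := pullback.lift (pY ≫ x) (𝟙 Y) wx
  let ay := pullback.lift (𝟙 X) (pX ≫ y) wy
  have hax : ax ≫ pullback.fst pX pY ≫ pX = pY := by
    rw [pullback.lift_fst_assoc, Category.assoc, hx, Category.comp_id]
  have hay : ay ≫ pullback.fst pX pY ≫ pX = pX := by rw [pullback.lift_fst_assoc, Category.id_comp]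
  haveI : IsClosedImmersion ax := by
    haveI : IsSeparated (pullback.snd pX pY) := MorphismProperty.pullback_snd _ _ inferInstance
    haveI : IsClosedImmersion (ax ≫ pullback.snd pX pY) := by rw [pullback.lift_snd]; infer_instance
    exact IsClosedImmersion.of_comp ax (pullback.snd pX pY)
  haveI : IsClosedImmersion ay := by
    haveI : IsSeparated (pullback.fst pX pY) := MorphismProperty.pullback_fst _ _ inferInstance
    haveI : IsClosedImmersion (ay ≫ pullback.fst pX pY) := by rw [pullback.lift_fst]; infer_instance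
    exact IsClosedImmersion.of_comp ay (pullback.fst pX pY)
  haveI : Flat (pullback.fst pX pY) := MorphismProperty.pullback_fst _ _ inferInstance
  haveI : IsProper (pullback.fst pX pY) := MorphismProperty.pullback_fst _ _ inferInstance
  haveI : LocallyOfFinitePresentation (pullback.fst pX pY) := MorphismProperty.pullback_fst _ _ inferInstance
  haveI : GeometricallyIntegral (pullback.fst pX pY) := MorphismProperty.pullback_fst _ _ inferInstance
  haveI hqGI : GeometricallyIntegral q := geometricallyIntegral_comp (pullback.fst pX pY) pX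
  haveI : Flat q := inferInstanceAs (Flat (pullback.fst pX pY ≫ pX))
  haveI : IsProper q := inferInstanceAs (IsProper (pullback.fst pX pY ≫ pX))
  haveI : LocallyOfFinitePresentation q := inferInstanceAs (LocallyOfFinitePresentation (pullback.fst pX pY ≫ pX))
  let h := pullback.snd q pZ
  haveI : Flat h := MorphismProperty.pullback_snd _ _ inferInstance
  haveI : IsProper h := MorphismProperty.pullback_snd _ _ inferInstance
  haveI : LocallyOfFinitePresentation h := MorphismProperty.pullback_snd _ _ inferInstance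
  haveI : GeometricallyIntegral h := MorphismProperty.pullback_snd _ _ inferInstance
  let Ys : ULift.{u} Bool → Scheme.{u} := fun j =>
    match j.down with
    | true => pullback (ax ≫ q) pZ
    | false => pullback (ay ≫ q) pZ
  let σ : ∀ j, Ys j ⟶ pullback q pZ := fun j =>
    match j with
    | ⟨true⟩ => pullback.map (ax ≫ q) pZ q pZ ax (𝟙 Z) (𝟙 S) hq₁ hz₁
    | ⟨false⟩ => pullback.map (ay ≫ q) pZ q pZ ay (𝟙 Z) (𝟙 S) hq₂ hz₂
  have hσh₁ : pullback.map (ax ≫ q) pZ q pZ ax (𝟙 Z) (𝟙 S) hq₁ hz₁ ≫ h = pullback.snd (ax ≫ q) pZ := by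
    rw [pullback.lift_snd, Category.comp_id]
  have hσh₂ : pullback.map (ay ≫ q) pZ q pZ ay (𝟙 Z) (𝟙 S) hq₂ hz₂ ≫ h = pullback.snd (ay ≫ q) pZ := by
    rw [pullback.lift_snd, Category.comp_id]
  haveI : ∀ j, IsAffineHom (σ j) := by
    rintro ⟨_ | _⟩
    · exact MorphismProperty.of_isPullback (slice_isPullback pZ ay hq₂ hz₂) inferInstance
    · exact MorphismProperty.of_isPullback (slice_isPullback pZ ax hq₁ hz₁) inferInstance
  have hprop : ∀ (Q : MorphismProperty Scheme.{u}) [Q.IsStableUnderBaseChange], Q pX → Q pY →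
      ∀ j, Q (σ j ≫ h) := by
    intro Q _ hQX hQY
    rintro ⟨_ | _⟩
    · show Q (_ ≫ h); rw [hσh₂]
      exact MorphismProperty.pullback_snd _ _ (by rw [show ay ≫ q = pX from hay]; exact hQX)
    · show Q (_ ≫ h); rw [hσh₁]
      exact MorphismProperty.pullback_snd _ _ (by rw [show ax ≫ q = pY from hax]; exact hQY)
  haveI : ∀ j, Flat (σ j ≫ h) := hprop @Flat inferInstance inferInstance
  haveI : ∀ j, IsProper (σ j ≫ h) := hprop @IsProper inferInstance inferInstance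
  haveI : ∀ j, LocallyOfFinitePresentation (σ j ≫ h) :=
    hprop @LocallyOfFinitePresentation inferInstance inferInstance
  haveI : ∀ j, GeometricallyIntegral (σ j ≫ h) := hprop @GeometricallyIntegral inferInstance inferInstance
  have hσ : ∀ j, pull (σ j) (clsMod hL) = 1 := by
    rintro ⟨_ | _⟩
    · exact h₂
    · exact h₁
  let ε : Z ⟶ pullback q pZ :=
    pullback.lift (pullback.lift (pZ ≫ x) (pZ ≫ y) (by simp [hx, hy])) (𝟙 Z)
      (by rw [pullback.lift_fst_assoc, Category.assoc, hx, Category.comp_id, Category.id_comp])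
  let ε₁ : Z ⟶ pullback (ax ≫ q) pZ := pullback.lift (pZ ≫ y) (𝟙 Z)
    (by rw [show ax ≫ q = pY from hax, Category.assoc, hy, Category.comp_id, Category.id_comp])
  have hεL : pull ε (clsMod hL) = 1 := by
    have e : ε = ε₁ ≫ pullback.map (ax ≫ q) pZ q pZ ax (𝟙 Z) (𝟙 S) hq₁ hz₁ := by
      refine pullback.hom_ext (pullback.hom_ext ?_ ?_) ?_
      · simp [ε, ε₁, ax, reassoc_of% hy]
      · simp [ε, ε₁, ax]
      · simp [ε, ε₁]
    rw [e, ← pull_comp, h₁, map_one]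
  refine exists_clopen_trivial h L hL ε (pullback.lift_snd _ _ _) hεL Ys σ hσ ?_
  intro K _ g κ U hU s hs hsl
  exact sCob_fibre pX pY pZ x hx y hy wx wy hq₁ hq₂ hz₁ hz₂ g hU s hs (hsl ⟨true⟩) (hsl ⟨false⟩)

include hx hy in
/-- A bundle trivial on both slices and on one fibre is trivial on a clopen neighbourhood of it. -/
theorem exists_clopen_cube (L : (pullback (pullback.fst pX pY ≫ pX) pZ).Modules) (hL : PicF.IsInvertible L)
    (wx : (pY ≫ x) ≫ pX = 𝟙 Y ≫ pY) (wy : 𝟙 X ≫ pX = (pX ≫ y) ≫ pY)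
    (hq₁ : (pullback.lift (pY ≫ x) (𝟙 Y) wx ≫ (pullback.fst pX pY ≫ pX)) ≫ 𝟙 S =
      pullback.lift (pY ≫ x) (𝟙 Y) wx ≫ (pullback.fst pX pY ≫ pX))
    (hq₂ : (pullback.lift (𝟙 X) (pX ≫ y) wy ≫ (pullback.fst pX pY ≫ pX)) ≫ 𝟙 S =
      pullback.lift (𝟙 X) (pX ≫ y) wy ≫ (pullback.fst pX pY ≫ pX))
    (hz₁ hz₂ : pZ ≫ 𝟙 S = 𝟙 Z ≫ pZ)
    (h₁ : pull (pullback.map (pullback.lift (pY ≫ x) (𝟙 Y) wx ≫ (pullback.fst pX pY ≫ pX)) pZ
      (pullback.fst pX pY ≫ pX) pZ (pullback.lift (pY ≫ x) (𝟙 Y) wx) (𝟙 Z) (𝟙 S) hq₁ hz₁) (clsMod hL) = 1)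
    (h₂ : pull (pullback.map (pullback.lift (𝟙 X) (pX ≫ y) wy ≫ (pullback.fst pX pY ≫ pX)) pZ
      (pullback.fst pX pY ≫ pX) pZ (pullback.lift (𝟙 X) (pX ≫ y) wy) (𝟙 Z) (𝟙 S) hq₂ hz₂) (clsMod hL) = 1)
    (z : Z) (h₃ : pull ((pullback.snd (pullback.fst pX pY ≫ pX) pZ).fiberι z) (clsMod hL) = 1) :
    ∃ W : Z.Opens, IsClosed (W : Set Z) ∧ z ∈ W ∧
      pull ((pullback.snd (pullback.fst pX pY ≫ pX) pZ) ⁻¹ᵁ W).ι (clsMod hL) = 1 := by
  obtain ⟨W, h, hW, hW'⟩ := exists_clopen_cube' pX pY pZ x hx y hy L hL wx wy hq₁ hq₂ hz₁ hz₂ h₁ h₂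
  exact ⟨W, h, hW z h₃, hW'⟩

end GrothLib.CubeRel26
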