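import Groth.Agent.Lib.CubeRel26.SmallExt
import Groth.Agent.Lib.Seesaw26.Scheme
import Groth.Agent.Lib.PicGlue26.Base

/-!
# Invertible modules trivial on enough slices are trivial on a clopen neighbourhood of a trivial fibre
-/

set_option autoImplicit false
set_option linter.style.haveILetI false
set_option backward.isDefEq.respectTransparency false
universe u

noncomputable section

open CategoryTheory CategoryTheory.Limits Opposite TopologicalSpace AlgebraicGeometry IsLocalRing
open GrothLib GrothLib.Ample GrothLib.Cube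

namespace GrothLib.CubeRel26

/-- A map to an affine open given by `g` factors through a closed subscheme iff `g` kills its ideal. -/
theorem factors_iff {Z T : Scheme.{u}} {ι : T ⟶ Z} [IsClosedImmersion ι] {U : Z.Opens} (hU : IsAffineOpen U)
    {R : Type u} [CommRing R] (g : Γ(Z, U) ⟶ CommRingCat.of R) :
    (∃ u' : Spec (CommRingCat.of R) ⟶ T, u' ≫ ι = Spec.map g ≫ hU.fromSpec) ↔
      RingHom.ker (ι.app U).hom ≤ RingHom.ker g.hom := by
  have hU' : IsAffineOpen (ι ⁻¹ᵁ U) := hU.preimage ι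
  have hsq : Spec.map (ι.app U) ≫ hU.fromSpec = hU'.fromSpec ≫ ι := by
    rw [Scheme.Hom.app_eq_appLE]; exact IsAffineOpen.SpecMap_appLE_fromSpec ι hU hU' le_rfl
  constructor
  · rintro ⟨u', hu'⟩
    have hr : (⊤ : (Spec (CommRingCat.of R)).Opens) ≤ u' ⁻¹ᵁ (ι ⁻¹ᵁ U) := fun t _ => by
      show (u' ≫ ι) t ∈ U
      rw [hu', Scheme.Hom.comp_apply]
      exact hU.range_fromSpec.le ⟨_, rfl⟩
    let g' : Γ(T, ι ⁻¹ᵁ U) ⟶ CommRingCat.of R := u'.appLE (ι ⁻¹ᵁ U) ⊤ hr ≫ (Scheme.ΓSpecIso _).hom
    have hg' : u' = Spec.map g' ≫ hU'.fromSpec := by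
      rw [show g' = u'.appLE (ι ⁻¹ᵁ U) ⊤ hr ≫ (Scheme.ΓSpecIso _).hom from rfl, Spec.map_comp,
        Category.assoc, IsAffineOpen.SpecMap_appLE_fromSpec u' hU' (isAffineOpen_top _)]
      simp [IsAffineOpen.fromSpec_top, Scheme.isoSpec_Spec]
    have hg : g = ι.app U ≫ g' := by
      refine Spec.map_injective ((cancel_mono hU.fromSpec).1 ?_)
      rw [Spec.map_comp, Category.assoc, hsq, ← Category.assoc, ← hg', hu']
    intro x hx
    rw [RingHom.mem_ker] at hx ⊢
    rw [hg, CommRingCat.comp_apply, hx, map_zero]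
  · intro hle
    obtain ⟨g', hg'⟩ : ∃ g' : Γ(T, ι ⁻¹ᵁ U) →+* R, g'.comp (ι.app U).hom = g.hom :=
      ⟨RingHom.liftOfSurjective (ι.app U).hom (ι.app_surjective U hU) ⟨g.hom, hle⟩,
        RingHom.liftOfRightInverse_comp _ _ _ _⟩
    refine ⟨Spec.map (CommRingCat.ofHom g') ≫ hU'.fromSpec, ?_⟩
    rw [Category.assoc, ← hsq, ← Spec.map_comp_assoc]
    congr 2
    exact CommRingCat.hom_ext hg'

/-- A nonzero finitely generated ideal of a local ring contains an ideal of colength one. -/
theorem exists_colength_one {O : Type u} [CommRing O] [IsLocalRing O] (J : Ideal O) (hJ : J.FG) (hJ0 : J ≠ ⊥) :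
    ∃ (J' : Ideal O) (π : O), J' ≤ J ∧ π ∈ J ∧ π ∉ J' ∧ J = J' ⊔ Ideal.span {π} ∧
      ∀ r ∈ maximalIdeal O, r * π ∈ J' := by
  haveI : Module.Finite O J := Module.Finite.iff_fg.2 hJ
  haveI : Nontrivial J := Submodule.nontrivial_iff_ne_bot.2 hJ0
  obtain ⟨N, hN, -⟩ := (eq_top_or_exists_le_coatom (⊥ : Submodule O J)).resolve_left bot_ne_top
  obtain ⟨x, -, hx⟩ := SetLike.exists_of_lt hN.1.lt_top
  have hmN : maximalIdeal O • (⊤ : Submodule O J) ≤ N := by
    by_contra hc
    have := hN.2 (N ⊔ maximalIdeal O • ⊤) (left_lt_sup.2 hc)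
    exact hN.1 (top_le_iff.1 (Submodule.le_of_le_smul_of_le_jacobson_bot Module.Finite.fg_top
      (jacobson_eq_maximalIdeal ⊥ bot_ne_top).ge this.ge))
  refine ⟨N.map J.subtype, x, Submodule.map_subtype_le _ _, x.2, ?_, ?_, fun r hr =>
    ⟨r • x, hmN (Submodule.smul_mem_smul hr trivial), rfl⟩⟩
  · rintro ⟨y, hy, he⟩
    exact hx ((Subtype.ext he : y = x) ▸ hy)
  · have htop : N ⊔ Submodule.span O {x} = ⊤ :=
      hN.2 _ (left_lt_sup.2 fun h => hx (h (Submodule.mem_span_singleton_self x)))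
    have := congrArg (Submodule.map J.subtype) htop
    rw [Submodule.map_sup, Submodule.map_span, Set.image_singleton, Submodule.map_subtype_top] at this
    exact this.symm

variable {P Z : Scheme.{u}} (h : P ⟶ Z) [Flat h] [IsProper h] [LocallyOfFinitePresentation h]
  [GeometricallyIntegral h]

/-- The map of a slice into a base change. -/
def sliceMap {P Z : Scheme.{u}} (h : P ⟶ Z) {Y T : Scheme.{u}} (σ : Y ⟶ P) (g : T ⟶ Z) :
    pullback (σ ≫ h) g ⟶ pullback h g :=
  pullback.lift (pullback.fst _ _ ≫ σ) (pullback.snd _ _) (by rw [Category.assoc]; exact pullback.condition)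

/-- Functions of a base change of a proper flat geometrically integral morphism are constants. -/
theorem surjective_cst_snd {R : Type u} [CommRing R] (g : Spec (CommRingCat.of R) ⟶ Z) :
    Function.Surjective (cst (pullback.snd h g) ⊤) := by
  haveI : IsProper (pullback.snd h g) := MorphismProperty.pullback_snd h g inferInstance
  haveI : Flat (pullback.snd h g) := MorphismProperty.pullback_snd h g inferInstance
  haveI : LocallyOfFinitePresentation (pullback.snd h g) := MorphismProperty.pullback_snd h g inferInstance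
  have hb := PicGlue26.bijective_app (pullback.snd h g) (fun K _ _ k => by
    let e := pullbackLeftPullbackSndIso h g k
    haveI : IsIntegral (pullback h (k ≫ g)) :=
      pullback_of_geometrically GeometricallyIntegral.geometrically_isIntegral _ (k ≫ g)
    haveI : Nonempty ↥(pullback (pullback.snd h g) k) := ⟨e.inv (Classical.arbitrary _)⟩
    haveI : IsIntegral (pullback (pullback.snd h g) k) := isIntegral_of_isOpenImmersion e.hom
    exact ⟨inferInstance, inferInstance⟩) ⊤
  intro y
  obtain ⟨l, hl⟩ := hb.2 y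
  obtain ⟨r, hr⟩ := (Scheme.ΓSpecIso (CommRingCat.of R)).symm.commRingCatIsoToRingEquiv.surjective l
  refine ⟨r, ?_⟩
  rw [← hl, ← hr]
  show ((pullback.snd h g).appLE ⊤ ⊤ le_top).hom _ = _
  rw [Scheme.Hom.app_eq_appLE]
  rfl

set_option maxHeartbeats 1000000 in
/-- Invertible modules trivial along a section and on enough slices are trivial over a clopen
set containing all points with trivial fibre. -/
theorem exists_clopen_trivial (L : P.Modules) (hL : PicF.IsInvertible L) (ε : Z ⟶ P) (hε : ε ≫ h = 𝟙 Z)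
    (hεL : pull ε (clsMod hL) = 1) {J : Type u} (Y : J → Scheme.{u}) (σ : ∀ j, Y j ⟶ P)
    [∀ j, IsAffineHom (σ j)] [∀ j, Flat (σ j ≫ h)] [∀ j, IsProper (σ j ≫ h)]
    [∀ j, LocallyOfFinitePresentation (σ j ≫ h)] [∀ j, GeometricallyIntegral (σ j ≫ h)]
    (hσ : ∀ j, pull (σ j) (clsMod hL) = 1)
    (hH1 : ∀ (K : Type u) [Field K] (g : Spec (CommRingCat.of K) ⟶ Z) (κ : Type u)
      (U : κ → (pullback h g).Opens), (⨆ a, U a = ⊤) → ∀ s, SCoc U s →
      (∀ j, SCob (fun a => sliceMap h (σ j) g ⁻¹ᵁ U a) (spull (sliceMap h (σ j) g) U s)) → SCob U s)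
    : ∃ W : Z.Opens, IsClosed (W : Set Z) ∧ (∀ z, pull (h.fiberι z) (clsMod hL) = 1 → z ∈ W) ∧
      pull (h ⁻¹ᵁ W).ι (clsMod hL) = 1 := by
  classical
  obtain ⟨Z₀, ι, hι, hfp, huniv⟩ := Seesaw26.exists_seesaw_subscheme' h L hL
  haveI := hι
  haveI := hfp
  set c := clsMod hL with hc
  have key : ∀ {T : Scheme.{u}} (u : T ⟶ Z),
      (∃ u' : T ⟶ Z₀, u' ≫ ι = u) ↔ pull (pullback.fst h u) c = 1 := by
    intro T u
    rw [huniv T u]
    constructor
    · rintro ⟨N, hN, ⟨e⟩⟩
      have h1 : pull (pullback.fst h u) c = pull (pullback.snd h u) (clsMod hN) := by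
        rw [← clsMod_pullback, ← clsMod_pullback, clsMod_eq_iff]; exact ⟨e⟩
      let εT : T ⟶ pullback h u := pullback.lift (u ≫ ε) (𝟙 T) (by simp [hε])
      have h2 := congrArg (pull εT) h1
      rw [pull_comp, pull_comp, pullback.lift_fst, pullback.lift_snd, pull_id, ← pull_comp, hεL, map_one] at h2
      rw [h1, ← h2, map_one]
    · intro h1
      rw [← clsMod_pullback, clsMod_eq_one_iff] at h1
      obtain ⟨e⟩ := h1
      exact ⟨_, Euler.isInvertible_structure, ⟨e ≪≫ (PicLoc.pullbackStructureIso _).symm⟩⟩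
  have hzr : ∀ z, pull (h.fiberι z) c = 1 → z ∈ Set.range ι := fun z hz => by
    obtain ⟨u', hu'⟩ := (key (Z.fromSpecResidueField z)).2 hz
    exact ⟨u' (IsLocalRing.closedPoint _), by rw [← Scheme.Hom.comp_apply, hu']; simp⟩
  -- the seesaw subscheme is open
  have hopen : ∀ w ∈ Set.range ι, ∃ V : Z.Opens, w ∈ V ∧ ∃ v : (V : Scheme.{u}) ⟶ Z₀, v ≫ ι = V.ι := by
    intro w hw
    obtain ⟨_, ⟨U, hU, rfl⟩, hwU, -⟩ :=
      Z.isBasis_affineOpens.exists_subset_of_mem_open (Set.mem_univ w) isOpen_univ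
    let I : Ideal Γ(Z, U) := RingHom.ker (ι.app U).hom
    have hI : I.FG := by
      have h1 := ι.finitePresentation_appLE hU (hU.preimage ι) le_rfl
      rw [← Scheme.Hom.app_eq_appLE] at h1
      algebraize [(ι.app U).hom]
      exact Algebra.FinitePresentation.ker_fG_of_surjective
        (Algebra.ofId Γ(Z, U) Γ(Z₀, ι ⁻¹ᵁ U)) (ι.app_surjective U hU)
    let O := Z.presheaf.stalk w
    let germ := Z.presheaf.germ U w hwU
    let I' : Ideal O := I.map germ.hom
    have hmap : ∀ {R : Type u} [CommRing R] (m : O ⟶ CommRingCat.of R),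
        (∃ u' : Spec (CommRingCat.of R) ⟶ Z₀, u' ≫ ι = Spec.map m ≫ Z.fromSpecStalk w) ↔
          I' ≤ RingHom.ker m.hom := by
      intro R _ m
      rw [Ideal.map_le_iff_le_comap, RingHom.comap_ker, ← hU.fromSpecStalk_eq_fromSpecStalk hwU,
        IsAffineOpen.fromSpecStalk, ← Spec.map_comp_assoc, factors_iff hU]
      rfl
    have hm : I' ≤ maximalIdeal O := by
      obtain ⟨w₀, rfl⟩ := hw
      haveI : IsIso (ι.residueFieldMap w₀) := by
        refine (ConcreteCategory.isIso_iff_bijective _).2 ⟨RingHom.injective _, fun y => ?_⟩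
        obtain ⟨a, ha⟩ := IsLocalRing.residue_surjective (R := Z₀.presheaf.stalk w₀) y
        obtain ⟨b, hb⟩ := ι.stalkMap_surjective w₀ a
        refine ⟨(Z.residue (ι w₀)).hom b, ?_⟩
        have e := congrArg (fun k => (CommRingCat.Hom.hom k) b) ((Scheme.residue_residueFieldMap ι w₀))
        exact e.trans ((congrArg (Z₀.residue w₀).hom hb).trans ha)
      have h1 := (hmap (R := Z.residueField (ι w₀)) (Z.residue (ι w₀))).1
        ⟨CategoryTheory.inv (Spec.map (ι.residueFieldMap w₀)) ≫ Z₀.fromSpecResidueField w₀, by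
          rw [Category.assoc, IsIso.inv_comp_eq]
          exact (ι.SpecMap_residueFieldMap_fromSpecResidueField w₀).symm⟩
      exact h1.trans_eq (IsLocalRing.ker_residue (R := O))
    by_cases hI0 : I' = ⊥
    · obtain ⟨s, hs⟩ := hI
      have hgen : ∀ x ∈ s, ∃ (V : Z.Opens) (hVU : V ≤ U), w ∈ V ∧ res hVU x = 0 := by
        intro x hx
        have h0 : germ.hom x = 0 := by
          have h0' : germ.hom x ∈ I' :=
            Ideal.mem_map_of_mem _ (show x ∈ I from hs ▸ Ideal.subset_span hx)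
          rwa [hI0, Ideal.mem_bot] at h0'
        obtain ⟨V, hwV, iU, iU', he⟩ := Z.presheaf.germ_eq w hwU hwU x 0 (h0.trans (map_zero _).symm)
        exact ⟨V, iU.le, hwV, by rw [map_zero] at he; exact he⟩
      choose V hVU hwV hV0 using hgen
      let V₀ : Z.Opens := U ⊓ s.attach.inf fun x => V x.1 x.2
      have hwV₀ : w ∈ V₀ := ⟨hwU, (Finset.inf_induction (f := fun x : s => V x.1 x.2) (s := s.attach)
        (p := fun W : Z.Opens => w ∈ W) trivial (fun _ ha _ hb => ⟨ha, hb⟩) fun x _ => hwV x.1 x.2)⟩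
      obtain ⟨V', hV', hwV', hle⟩ := exists_isAffineOpen_mem_and_subset hwV₀
      have hVU' : V' ≤ U := fun y hy => (hle hy).1
      obtain ⟨u', hu'⟩ := (factors_iff (ι := ι) hU (R := Γ(Z, V')) (Z.presheaf.map (homOfLE hVU').op)).2 (by
        show I ≤ _
        rw [← hs, Ideal.span_le]
        intro x hx
        have hV'x : V' ≤ V x hx := fun y hy =>
          (Finset.inf_le (f := fun x : s => V x.1 x.2) (Finset.mem_attach s ⟨x, hx⟩)) (hle hy).2
        show res hVU' x = 0
        exact (res_res (hVU x hx) hV'x x).symm.trans ((congrArg (res hV'x) (hV0 x hx)).trans (map_zero _)))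
      rw [hU.map_fromSpec hV'] at hu'
      exact ⟨V', hwV', hV'.isoSpec.hom ≫ u', by rw [Category.assoc, hu']; exact hV'.isoSpec_hom_fromSpec⟩
    · exfalso
      obtain ⟨J', π, hJ', hπI, hπ, hsup, hπm⟩ := exists_colength_one I' (hI.map _) hI0
      let B := O ⧸ J'
      let B₁ := O ⧸ I'
      let ψ : B →+* B₁ := Ideal.Quotient.factor hJ'
      let φ : B →+* Z.residueField w := Ideal.Quotient.lift J' (Z.residue w).hom fun x hx => by
        exact (IsLocalRing.residue_eq_zero_iff x).2 (hm (hJ' hx))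
      let t : Spec (CommRingCat.of B) ⟶ Z :=
        Spec.map (CommRingCat.ofHom (Ideal.Quotient.mk J')) ≫ Z.fromSpecStalk w
      let t₁ : Spec (CommRingCat.of B₁) ⟶ Z := Spec.map (CommRingCat.ofHom ψ) ≫ t
      let t₀ : Spec (CommRingCat.of (Z.residueField w)) ⟶ Z := Spec.map (CommRingCat.ofHom φ) ≫ t
      have hψ : Function.Surjective ψ := Ideal.Quotient.factor_surjective hJ'
      have hφ : Function.Surjective φ := fun r => by
        obtain ⟨x, hx⟩ := IsLocalRing.residue_surjective (R := O) r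
        exact ⟨Ideal.Quotient.mk J' x, hx⟩
      have hkerψ : RingHom.ker ψ = Ideal.span {Ideal.Quotient.mk J' π} := by
        rw [show RingHom.ker ψ = I'.map (Ideal.Quotient.mk J') from Ideal.Quotient.factor_ker hJ', hsup, Ideal.map_sup,
          Ideal.map_quotient_self, bot_sup_eq, Ideal.map_span, Set.image_singleton]
      have hφx : ∀ x : O, φ (Ideal.Quotient.mk J' x) = 0 ↔ x ∈ maximalIdeal O := fun x =>
        IsLocalRing.residue_eq_zero_iff x
      have hann : ∀ b, φ b = 0 ↔ Ideal.Quotient.mk J' π * b = 0 := by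
        intro b
        obtain ⟨x, rfl⟩ := Ideal.Quotient.mk_surjective b
        rw [hφx, ← map_mul, Ideal.Quotient.eq_zero_iff_mem]
        refine ⟨fun hx => mul_comm x π ▸ hπm x hx, fun hx => ?_⟩
        by_contra hc
        exact hπ ((Ideal.mul_unit_mem_iff_mem J' (IsLocalRing.notMem_maximalIdeal.1 hc)).1 hx)
      let PB := pullback h t
      let f : PB ⟶ Spec (CommRingCat.of B) := pullback.snd h t
      haveI : IsProper f := MorphismProperty.pullback_snd h t inferInstance
      haveI : Flat f := MorphismProperty.pullback_snd h t inferInstance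
      obtain ⟨c₀, hc₀⟩ := Quotient.exists_rep (pull (pullback.fst h t) c)
      change cls c₀ = _ at hc₀
      let j₁ : pullback h t₁ ⟶ PB :=
        pullback.lift (pullback.fst h t₁) (pullback.snd h t₁ ≫ Spec.map (CommRingCat.ofHom ψ))
          (by rw [Category.assoc]; exact pullback.condition)
      let j₀ : pullback h t₀ ⟶ PB :=
        pullback.lift (pullback.fst h t₀) (pullback.snd h t₀ ≫ Spec.map (CommRingCat.ofHom φ))
          (by rw [Category.assoc]; exact pullback.condition)
      have sq : ∀ {W P' T' T : Scheme.{u}} (k : W ⟶ Z) (a : T ⟶ Z) (b : T' ⟶ T) (j : P' ⟶ pullback k a)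
          (p : P' ⟶ T'), j ≫ pullback.snd k a = p ≫ b → IsPullback (j ≫ pullback.fst k a) p k (b ≫ a) →
          IsPullback j p (pullback.snd k a) b := fun k a b j p e H =>
        IsPullback.of_right H e (IsPullback.of_hasPullback k a)
      have H₁ : IsPullback j₁ (pullback.snd h t₁) f (Spec.map (CommRingCat.ofHom ψ)) :=
        sq h t _ j₁ _ (pullback.lift_snd _ _ _) (by
          rw [pullback.lift_fst]; exact IsPullback.of_hasPullback h t₁)
      have H₀ : IsPullback j₀ (pullback.snd h t₀) f (Spec.map (CommRingCat.ofHom φ)) :=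
        sq h t _ j₀ _ (pullback.lift_snd _ _ _) (by
          rw [pullback.lift_fst]; exact IsPullback.of_hasPullback h t₀)
      have h₁ : Triv (c₀.comap j₁) := by
        rw [← cls_eq_one_iff, ← pull_cls, hc₀, pull_comp, pullback.lift_fst, ← key]
        have e : t₁ = Spec.map (CommRingCat.ofHom (Ideal.Quotient.mk I')) ≫ Z.fromSpecStalk w := by
          simp only [t₁, t, ← Spec.map_comp_assoc]
          rfl
        rw [e]
        exact (hmap (CommRingCat.ofHom (Ideal.Quotient.mk I'))).2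
          (Ideal.mk_ker (I := I')).ge
      let YB : J → Scheme.{u} := fun j => pullback (σ j ≫ h) t
      let σB : ∀ j, YB j ⟶ PB := fun j => sliceMap h (σ j) t
      have hσBf : ∀ j, σB j ≫ f = pullback.snd (σ j ≫ h) t := fun j => pullback.lift_snd _ _ _
      haveI : ∀ j, IsAffineHom (σB j) := fun j => by
        have hpb : IsPullback (pullback.fst (σ j ≫ h) t) (σB j) (σ j) (pullback.fst h t) :=
          IsPullback.of_bot (v₁₁ := σB j) (v₂₁ := pullback.snd h t) (v₁₂ := σ j) (v₂₂ := h) (by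
            rw [show σB j ≫ pullback.snd h t = pullback.snd (σ j ≫ h) t from hσBf j]
            exact IsPullback.of_hasPullback (σ j ≫ h) t)
            (pullback.lift_fst _ _ _).symm (IsPullback.of_hasPullback h t)
        exact MorphismProperty.of_isPullback hpb inferInstance
      haveI : ∀ j, Flat (σB j ≫ f) := fun j => by
        rw [hσBf j]; exact MorphismProperty.pullback_snd _ t inferInstance
      let i₁ : ∀ j, pullback (σ j ≫ h) t₁ ⟶ YB j := fun j =>
        pullback.lift (pullback.fst _ t₁) (pullback.snd _ t₁ ≫ Spec.map (CommRingCat.ofHom ψ))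
          (by simp only [Category.assoc]; exact pullback.condition)
      let i₀ : ∀ j, pullback (σ j ≫ h) t₀ ⟶ YB j := fun j =>
        pullback.lift (pullback.fst _ t₀) (pullback.snd _ t₀ ≫ Spec.map (CommRingCat.ofHom φ))
          (by simp only [Category.assoc]; exact pullback.condition)
      have HY₁ : ∀ j, IsPullback (i₁ j) (pullback.snd (σ j ≫ h) t₁) (σB j ≫ f)
          (Spec.map (CommRingCat.ofHom ψ)) := fun j => by
        rw [hσBf j]
        exact sq (σ j ≫ h) t _ (i₁ j) _ (pullback.lift_snd _ _ _) (by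
          rw [pullback.lift_fst]; exact IsPullback.of_hasPullback _ t₁)
      have HY₀ : ∀ j, IsPullback (i₀ j) (pullback.snd (σ j ≫ h) t₀) (σB j ≫ f)
          (Spec.map (CommRingCat.ofHom φ)) := fun j => by
        rw [hσBf j]
        exact sq (σ j ≫ h) t _ (i₀ j) _ (pullback.lift_snd _ _ _) (by
          rw [pullback.lift_fst]; exact IsPullback.of_hasPullback _ t₀)
      have hσB : ∀ j, Triv (c₀.comap (σB j)) := fun j => by
        rw [← cls_eq_one_iff, ← pull_cls, hc₀, pull_comp]
        show pull (sliceMap h (σ j) t ≫ pullback.fst h t) c = 1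
        rw [sliceMap, pullback.lift_fst, ← pull_comp, hσ j, map_one]
      have htriv := triv_of_slices H₁ hψ hkerψ H₀ hφ hann ((hφx π).2 (hm hπI)) c₀ h₁ YB
        (fun j => pullback (σ j ≫ h) t₁) (fun j => pullback (σ j ≫ h) t₀) σB i₁
        (fun j => pullback.snd (σ j ≫ h) t₁) HY₁ i₀ (fun j => pullback.snd (σ j ≫ h) t₀) HY₀
        (fun j => surjective_cst_snd (σ j ≫ h) t₁) hσB (fun j => sliceMap h (σ j) t₀)
        (fun j => by
          refine pullback.hom_ext ?_ ?_
          · simp [sliceMap, j₀, i₀, σB]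
          · simp [sliceMap, j₀, i₀, σB])
        (hH1 _ t₀)
      rw [← cls_eq_one_iff, hc₀, ← key] at htriv
      have h' := ((hmap (CommRingCat.ofHom (Ideal.Quotient.mk J'))).1 htriv) hπI
      exact hπ (Ideal.Quotient.eq_zero_iff_mem.1 h')
  choose V hwV v hv using hopen
  have hW : IsOpen (Set.range ι) := isOpen_iff_forall_mem_open.2 fun w hw =>
    ⟨V w hw, fun y hy => ⟨v w hw ⟨y, hy⟩, by
      have := congrArg (fun k : (V w hw : Scheme.{u}) ⟶ Z => k ⟨y, hy⟩) (hv w hw)
      simpa using this⟩, (V w hw).isOpen, hwV w hw⟩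
  let W : Z.Opens := ⟨Set.range ι, hW⟩
  refine ⟨W, ι.isClosedEmbedding.isClosed_range, hzr, ?_⟩
  have hfac : ∃ a : (W : Scheme.{u}) ⟶ Z₀, a ≫ ι = W.ι := by
    let Vi : W → W.toScheme.Opens := fun w => W.ι ⁻¹ᵁ V w.1 w.2
    let 𝒰 := Scheme.openCoverOfIsOpenCover W.toScheme Vi (TopologicalSpace.IsOpenCover.mk (top_le_iff.1 fun y _ =>
      Opens.mem_iSup.2 ⟨⟨y.1, y.2⟩, hwV y.1 y.2⟩))
    have hlift : ∀ i, ∃ a, a ≫ ι = (Vi i).ι ≫ W.ι := fun i => by
      refine ⟨IsOpenImmersion.lift (V i.1 i.2).ι ((Vi i).ι ≫ W.ι) ?_ ≫ v i.1 i.2, ?_⟩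
      · rintro _ ⟨y, rfl⟩
        rw [Scheme.Opens.range_ι]
        exact y.2
      · rw [Category.assoc, hv, IsOpenImmersion.lift_fac]
    choose a ha using hlift
    have hcomp : ∀ x y, pullback.fst (𝒰.f x) (𝒰.f y) ≫ a x = pullback.snd (𝒰.f x) (𝒰.f y) ≫ a y :=
      fun x y => by
        rw [← cancel_mono ι, Category.assoc, Category.assoc, ha, ha]
        exact pullback.condition_assoc W.ι
    exact ⟨𝒰.glueMorphisms a hcomp, 𝒰.hom_ext _ _ fun i => by rw [𝒰.ι_glueMorphisms_assoc]; exact ha i⟩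
  have h1 := (key W.ι).1 hfac
  rw [← pullbackRestrictIsoRestrict_hom_ι h W, ← pull_comp] at h1
  have h2 := congrArg (pull (pullbackRestrictIsoRestrict h W).inv) h1
  rwa [pull_comp, Iso.inv_hom_id, pull_id, map_one] at h2

end GrothLib.CubeRel26
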