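import Groth.Agent.Lib.CubeRel26.Flat
import Groth.Agent.Lib.Cube.Pic
import Groth.Agent.Lib.Cube.Trivs

/-!
# Trivialisations of invertible modules across a small extension
-/

universe u

open CategoryTheory CategoryTheory.Limits Opposite TopologicalSpace AlgebraicGeometry
open GrothLib GrothLib.Ample GrothLib.Cube

set_option backward.isDefEq.respectTransparency false

noncomputable section

namespace GrothLib.CubeRel26

/-- A cocycle can be refined to an affine cover. -/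
theorem exists_affine_rep {P : Scheme.{u}} (c : Cocycle P) :
    ∃ d : Cocycle P, Cube.cls d = Cube.cls c ∧ ∀ i, IsAffineOpen (d.D i) := by
  have hex : ∀ x : P, ∃ (i : c.ι) (W : P.Opens), IsAffineOpen W ∧ x ∈ W ∧ W ≤ c.D i := fun x => by
    obtain ⟨i, hi⟩ := c.exists_mem x
    obtain ⟨W, hW, hxW, hWi⟩ := exists_isAffineOpen_mem_and_subset hi
    exact ⟨i, W, hW, hxW, hWi⟩
  choose idx W haff hxW hle using hex
  let d : Cocycle P :=
    { ι := P
      D := W
      g := fun a b => c.G (idx a) (idx b) (inf_le_left.trans (hle a)) (inf_le_right.trans (hle b))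
      cover := top_le_iff.1 fun x _ => Opens.mem_iSup.2 ⟨x, hxW x⟩
      self := fun a V hV => by rw [Cocycle.res_G]; exact c.G_self _ _ _
      change := fun a b e V ha hb he => by
        simp only [Cocycle.res_G]
        exact c.G_trans (idx a) (idx b) (idx e) _ _ _ }
  refine ⟨d, Quotient.sound (Cube.eqv_of_map (c := d) (c' := c) idx hle (fun _ => 1) (fun _ => isUnit_one)
    fun a b O ha hb => ?_), haff⟩
  rw [map_one, map_one, one_mul, mul_one]
  exact (c.res_G (idx a) (idx b) (inf_le_left.trans (hle a)) (inf_le_right.trans (hle b)) _).symm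

variable {B B₁ L : Type u} [CommRing B] [CommRing B₁] [CommRing L] {ψ : B →+* B₁} {φ : B →+* L} {π : B}
  {P P₁ P₀ : Scheme.{u}} {f : P ⟶ Spec (CommRingCat.of B)} {j₁ : P₁ ⟶ P}
  {p₁ : P₁ ⟶ Spec (CommRingCat.of B₁)} {j₀ : P₀ ⟶ P} {p₀ : P₀ ⟶ Spec (CommRingCat.of L)}

theorem appLE_appLE {X Y T : Scheme.{u}} (a : T ⟶ Y) (b : Y ⟶ X) {U : X.Opens} {V : Y.Opens} {O : T.Opens}
    (e₁ : V ≤ b ⁻¹ᵁ U) (e₂ : O ≤ a ⁻¹ᵁ V) (x : Γ(X, U)) :
    (a.appLE V O e₂).hom ((b.appLE U V e₁).hom x) =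
      ((a ≫ b).appLE U O (e₂.trans (a.preimage_mono e₁))).hom x := by
  rw [← CommRingCat.comp_apply, Scheme.Hom.appLE_comp_appLE]

theorem appLE_congr' {X Y : Scheme.{u}} {a b : Y ⟶ X} (h : a = b) {U : X.Opens} {V : Y.Opens}
    (e : V ≤ a ⁻¹ᵁ U) (x : Γ(X, U)) : (a.appLE U V e).hom x = (b.appLE U V (h ▸ e)).hom x := by
  subst h; rfl

/-- A function lifting a unit across a small extension is a unit. -/
theorem isUnit_of_app (H₁ : IsPullback j₁ p₁ f (Spec.map (CommRingCat.ofHom ψ))) (hψ : Function.Surjective ψ)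
    (hkerψ : RingHom.ker ψ = Ideal.span {π}) (hπ : π * π = 0) {V : P.Opens} (hV : IsAffineOpen V) (x : Γ(P, V))
    (hx : IsUnit ((j₁.app V).hom x)) : IsUnit x := by
  haveI : IsClosedImmersion j₁ := MorphismProperty.of_isPullback H₁.flip
    (show IsClosedImmersion (Spec.map (CommRingCat.ofHom ψ)) from IsClosedImmersion.spec_of_surjective _ hψ)
  obtain ⟨y, hy⟩ := j₁.app_surjective V hV ↑hx.unit⁻¹
  obtain ⟨z, hz⟩ := exists_eq_mul ψ H₁ hψ hkerψ hV (x * y - 1)
    (by rw [map_sub, map_mul, map_one, hy, IsUnit.mul_val_inv, sub_self])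
  refine IsUnit.of_mul_eq_one (y * (1 - cst f V π * z)) ?_
  have h2 : cst f V π * cst f V π = 0 := by rw [← map_mul, hπ, map_zero]
  linear_combination (1 - cst f V π * z) * hz - (z * z) * h2

set_option maxHeartbeats 1000000 in
/-- Trivial modulo a small ideal and on enough slices means trivial. -/
theorem triv_of_slices [IsSeparated f] [Flat f]
    (H₁ : IsPullback j₁ p₁ f (Spec.map (CommRingCat.ofHom ψ))) (hψ : Function.Surjective ψ)
    (hkerψ : RingHom.ker ψ = Ideal.span {π})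
    (H₀ : IsPullback j₀ p₀ f (Spec.map (CommRingCat.ofHom φ))) (hφ : Function.Surjective φ)
    (hann : ∀ b, φ b = 0 ↔ π * b = 0) (hπ0 : φ π = 0)
    (c₀ : Cocycle P) (h₁ : Triv (c₀.comap j₁))
    {J : Type*} (Y Y₁ Y₀ : J → Scheme.{u}) (σ : ∀ j, Y j ⟶ P) [∀ j, IsAffineHom (σ j)] [∀ j, Flat (σ j ≫ f)]
    (i₁ : ∀ j, Y₁ j ⟶ Y j) (q₁ : ∀ j, Y₁ j ⟶ Spec (CommRingCat.of B₁))
    (HY₁ : ∀ j, IsPullback (i₁ j) (q₁ j) (σ j ≫ f) (Spec.map (CommRingCat.ofHom ψ)))
    (i₀ : ∀ j, Y₀ j ⟶ Y j) (q₀ : ∀ j, Y₀ j ⟶ Spec (CommRingCat.of L))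
    (HY₀ : ∀ j, IsPullback (i₀ j) (q₀ j) (σ j ≫ f) (Spec.map (CommRingCat.ofHom φ)))
    (hΓ : ∀ j, Function.Surjective (cst (q₁ j) ⊤)) (hσ : ∀ j, Triv (c₀.comap (σ j)))
    (σ₀ : ∀ j, Y₀ j ⟶ P₀) (hsq : ∀ j, σ₀ j ≫ j₀ = i₀ j ≫ σ j)
    (hH1 : ∀ (κ : Type u) (U : κ → P₀.Opens), (⨆ a, U a = ⊤) →
      ∀ h, SCoc U h → (∀ j, SCob (fun a => σ₀ j ⁻¹ᵁ U a) (spull (σ₀ j) U h)) → SCob U h) :
    Triv c₀ := by
  classical
  haveI : P.IsSeparated := ⟨by rw [← terminal.comp_from f]; infer_instance⟩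
  haveI : IsClosedImmersion j₁ := MorphismProperty.of_isPullback H₁.flip
    (show IsClosedImmersion (Spec.map (CommRingCat.ofHom ψ)) from IsClosedImmersion.spec_of_surjective _ hψ)
  haveI : IsClosedImmersion j₀ := MorphismProperty.of_isPullback H₀.flip
    (show IsClosedImmersion (Spec.map (CommRingCat.ofHom φ)) from IsClosedImmersion.spec_of_surjective _ hφ)
  obtain ⟨c, hc, haff⟩ := exists_affine_rep c₀
  rw [← cls_eq_one_iff, ← hc, cls_eq_one_iff]
  have h₁' : Triv (c.comap j₁) := by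
    rw [← cls_eq_one_iff, ← pull_cls, hc, pull_cls, cls_eq_one_iff]; exact h₁
  have hσ' : ∀ j, Triv (c.comap (σ j)) := fun j => by
    rw [← cls_eq_one_iff, ← pull_cls, hc, pull_cls, cls_eq_one_iff]; exact hσ j
  have hππ : π * π = 0 := (hann π).1 hπ0
  obtain ⟨u, hu, huG⟩ : ∃ a : ∀ i, Γ(P₁, j₁ ⁻¹ᵁ c.D i), (∀ i, IsUnit (a i)) ∧
      ∀ i k (W : P₁.Opens) (hi : W ≤ j₁ ⁻¹ᵁ c.D i) (hk : W ≤ j₁ ⁻¹ᵁ c.D k),
        res hi (a i) = (j₁.appLE (c.D i ⊓ c.D k) W (le_inf hi hk)).hom (c.g i k) * res hk (a k) := by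
    obtain ⟨a, ha, haG⟩ := PthRoot26.triv_units h₁'
    exact ⟨a, ha, fun i j W hi hj => (haG i j W hi hj).trans (congrArg (· * _) (Cocycle.comap_G _ _ _ _ hi hj))⟩
  -- units lifting the trivialisation
  choose s hs using fun i => j₁.app_surjective (c.D i) (haff i) (u i)
  have hsu : ∀ i, IsUnit (s i) := fun i =>
    isUnit_of_app H₁ hψ hkerψ hππ (haff i) (s i) (by rw [hs i]; exact hu i)
  have hd : ∀ i k, ∃ z, res inf_le_left (s i) - c.g i k * res inf_le_right (s k) = cst f (c.D i ⊓ c.D k) π * z := by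
    intro i k
    refine exists_eq_mul ψ H₁ hψ hkerψ ((haff i).inf (haff k)) _ ?_
    have h := huG i k (j₁ ⁻¹ᵁ (c.D i ⊓ c.D k)) (j₁.preimage_mono inf_le_left) (j₁.preimage_mono inf_le_right)
    rw [← hs i, ← hs k] at h
    simp only [Scheme.Hom.app_eq_appLE, map_sub, map_mul, appLE_res, res_appLE] at h ⊢
    exact sub_eq_zero.2 h
  choose z hz using hd
  have hzres : ∀ i k (O : P.Opens) (hi : O ≤ c.D i) (hk : O ≤ c.D k),
      res hi (s i) - c.G i k hi hk * res hk (s k) = cst f O π * res (le_inf hi hk) (z i k) := fun i k O hi hk => by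
    have := congrArg (res (le_inf hi hk)) (hz i k)
    simpa only [Cocycle.G, map_sub, map_mul, res_res, res_cst] using this
  -- the functions on the fibre
  let U : c.ι → P₀.Opens := fun i => j₀ ⁻¹ᵁ c.D i
  choose t ht using fun i => (hsu i).exists_right_inv
  let h : ∀ i k, Γ(P₀, U i ⊓ U k) := fun i k =>
    (j₀.appLE (c.D i ⊓ c.D k) (U i ⊓ U k) le_rfl).hom (z i k * res inf_le_left (t i))
  have hcoc : SCoc U h := by
    intro i k m V hi hk hm
    let O := c.D i ⊓ c.D k ⊓ c.D m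
    have hVO : V ≤ j₀ ⁻¹ᵁ O := le_inf (le_inf hi hk) hm
    have oi : O ≤ c.D i := inf_le_left.trans inf_le_left
    have ok : O ≤ c.D k := inf_le_left.trans inf_le_right
    have om : O ≤ c.D m := inf_le_right
    have e1 := hzres i k O oi ok
    have e2 := hzres k m O ok om
    have e3 := hzres i m O oi om
    rw [c.G_trans i k m oi ok om] at e3
    have h0 : cst f O π * (res (le_inf oi om) (z i m) - res (le_inf oi ok) (z i k) -
        c.G i k oi ok * res (le_inf ok om) (z k m)) = 0 := by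
      linear_combination -e3 + e1 + (c.G i k oi ok) * e2
    have h4 := appLE_eq_zero hann H₀ hVO h0
    have hsik : (j₀.appLE O V hVO).hom (res oi (s i) - c.G i k oi ok * res ok (s k)) = 0 := by
      rw [e1, map_mul, cst_fibre_eq_zero H₀ hπ0, zero_mul]
    have hti := congrArg (fun w => (j₀.appLE _ V (hVO.trans (j₀.preimage_mono oi))).hom w) (ht i)
    have htk := congrArg (fun w => (j₀.appLE _ V (hVO.trans (j₀.preimage_mono ok))).hom w) (ht k)
    simp only [h, map_mul, map_sub, map_one, res_appLE, appLE_res, Cocycle.G] at h4 hsik hti htk ⊢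
    generalize (j₀.appLE (c.D i ⊓ c.D m) V _).hom (z i m) = A at *
    generalize (j₀.appLE (c.D i ⊓ c.D k) V _).hom (z i k) = B' at *
    generalize (j₀.appLE (c.D k ⊓ c.D m) V _).hom (z k m) = C at *
    generalize (j₀.appLE (c.D i ⊓ c.D k) V _).hom (c.g i k) = G at *
    generalize (j₀.appLE (c.D i) V _).hom (t i) = ti at *
    generalize (j₀.appLE (c.D k) V _).hom (t k) = tk at *
    generalize (j₀.appLE (c.D i) V _).hom (s i) = si at *
    generalize (j₀.appLE (c.D k) V _).hom (s k) = sk at *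
    linear_combination ti * h4 + C * tk * hti - C * G * ti * htk - C * ti * tk * hsik
  have hslice : ∀ j, SCob (fun i => σ₀ j ⁻¹ᵁ U i) (spull (σ₀ j) U h) := by
    intro j
    let V : c.ι → (Y j).Opens := fun i => σ j ⁻¹ᵁ c.D i
    let g := σ j ≫ f
    obtain ⟨T, hT, hTG⟩ : ∃ a : ∀ i, Γ(Y j, V i), (∀ i, IsUnit (a i)) ∧
        ∀ i k (W : (Y j).Opens) (hi : W ≤ V i) (hk : W ≤ V k),
          res hi (a i) = ((σ j).appLE (c.D i ⊓ c.D k) W (le_inf hi hk)).hom (c.g i k) * res hk (a k) := by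
      obtain ⟨a, ha, haG⟩ := PthRoot26.triv_units (hσ' j)
      exact ⟨a, ha, fun i k W hi hk => (haG i k W hi hk).trans (congrArg (· * _) (Cocycle.comap_G _ _ _ _ hi hk))⟩
    choose T' hT' using fun i => (hT i).exists_right_inv
    let V₁ : c.ι → (Y₁ j).Opens := fun i => i₁ j ⁻¹ᵁ V i
    have hVcov : ⨆ i, V i = ⊤ := by rw [← Scheme.Hom.preimage_iSup, c.cover]; rfl
    let r : ∀ i, Γ(Y₁ j, V₁ i) := fun i =>
      ((i₁ j).appLE (V i) (V₁ i) le_rfl).hom (((σ j).appLE (c.D i) (V i) le_rfl).hom (s i) * T' i)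
    obtain ⟨ρ, hρ⟩ := Cube.exists_glue V₁ (O := ⊤) (fun _ => le_top)
      (by rw [← Scheme.Hom.preimage_iSup, hVcov]; exact le_rfl) r fun i k => by
        let W := V i ⊓ V k
        have e0 := congrArg ((σ j).appLE (c.D i ⊓ c.D k) W le_rfl).hom (hzres i k _ inf_le_left inf_le_right)
        have eT := hTG i k W inf_le_left inf_le_right
        have eTi := congrArg (fun w => ((i₁ j).appLE _ (V₁ i ⊓ V₁ k) inf_le_left).hom w) (hT' i)
        have eTk := congrArg (fun w => ((i₁ j).appLE _ (V₁ i ⊓ V₁ k) inf_le_right).hom w) (hT' k)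
        have hπY : ((i₁ j).appLE W (V₁ i ⊓ V₁ k) le_rfl).hom (cst g W π) = 0 :=
          cst_fibre_eq_zero (HY₁ j) (by rw [← RingHom.mem_ker, hkerψ]; exact Ideal.mem_span_singleton_self π) le_rfl
        simp only [map_sub, map_mul, Cocycle.G, res_self, appLE_res, appLE_cst] at e0
        have e0' := congrArg ((i₁ j).appLE W (V₁ i ⊓ V₁ k) le_rfl).hom e0
        have eT' := congrArg ((i₁ j).appLE W (V₁ i ⊓ V₁ k) le_rfl).hom eT
        rw [map_mul _ (cst g W π), hπY, zero_mul] at e0'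
        simp only [r, map_sub, map_mul, map_one, res_appLE, appLE_res] at e0' eT' eTi eTk ⊢
        have key : ∀ {R : Type u} [CommRing R] (si sk G Ti Tk Ui Uk : R),
            si - G * sk = 0 → Ti = G * Tk → Ti * Ui = 1 → Tk * Uk = 1 → si * Ui = sk * Uk := by
          intro R _ si sk G Ti Tk Ui Uk h1 h2 h3 h4
          linear_combination Ui * h1 - sk * Uk * Ui * h2 + sk * Uk * h3 - G * Ui * sk * h4
        simp only [appLE_appLE] at e0' eT' eTi eTk ⊢
        exact key _ _ _ _ _ _ _ e0' eT' eTi eTk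
    obtain ⟨b₁, hb⟩ := hΓ j ρ
    obtain ⟨b, rfl⟩ := hψ b₁
    have he : ∀ i, ∃ e, ((σ j).appLE (c.D i) (V i) le_rfl).hom (s i) - cst g (V i) b * T i = cst g (V i) π * e := by
      intro i
      refine exists_eq_mul ψ (HY₁ j) hψ hkerψ ((haff i).preimage (σ j)) _ ?_
      have h1 := hρ i
      rw [← hb, res_cst] at h1
      have hb' : ((i₁ j).appLE (V i) (V₁ i) le_rfl).hom (cst g (V i) b) = cst (q₁ j) (V₁ i) (ψ b) := by
        rw [appLE_cst, (HY₁ j).w]
        have e := appLE_cst (q₁ j) (Spec.map (CommRingCat.ofHom ψ)) (V := ⊤) (W := V₁ i) le_top b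
        refine e.symm.trans ?_
        show ((q₁ j).appLE ⊤ (V₁ i) le_top).hom _ = ((q₁ j).appLE ⊤ (V₁ i) le_top).hom _
        congr 1
        show ((Scheme.ΓSpecIso (CommRingCat.of B)).inv ≫ (Spec.map (CommRingCat.ofHom ψ)).appLE ⊤ ⊤ le_top).hom b = _
        rw [show (Spec.map (CommRingCat.ofHom ψ)).appLE ⊤ ⊤ le_top = (Spec.map (CommRingCat.ofHom ψ)).appTop
          from Scheme.Hom.appLE_eq_app _, ← Scheme.ΓSpecIso_inv_naturality]
        rfl
      have hTi := congrArg (fun w => ((i₁ j).appLE _ (V₁ i) le_rfl).hom w) (hT' i)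
      rw [Scheme.Hom.app_eq_appLE]
      show ((i₁ j).appLE (V i) (V₁ i) le_rfl).hom _ = 0
      simp only [r, map_mul, map_one] at h1 hTi
      rw [map_sub, map_mul, hb', h1]
      linear_combination -(((i₁ j).appLE (V i) (V₁ i) le_rfl).hom (((σ j).appLE (c.D i) (V i) le_rfl).hom (s i))) * hTi
    choose e he using he
    refine ⟨fun i => ((i₀ j).appLE (V i) (σ₀ j ⁻¹ᵁ U i) ?_).hom (e i * ((σ j).appLE (c.D i) (V i) le_rfl).hom (t i)),
      fun i k => ?_⟩
    · show (σ₀ j ≫ j₀) ⁻¹ᵁ c.D i ≤ (i₀ j ≫ σ j) ⁻¹ᵁ c.D i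
      rw [hsq]
    let W := V i ⊓ V k
    let W₀ := σ₀ j ⁻¹ᵁ U i ⊓ σ₀ j ⁻¹ᵁ U k
    have hW₀ : W₀ ≤ i₀ j ⁻¹ᵁ W := by
      show (σ₀ j ≫ j₀) ⁻¹ᵁ (c.D i ⊓ c.D k) ≤ (i₀ j ≫ σ j) ⁻¹ᵁ (c.D i ⊓ c.D k)
      rw [hsq]
    have eT := hTG i k W inf_le_left inf_le_right
    have e0 := congrArg ((σ j).appLE (c.D i ⊓ c.D k) W le_rfl).hom (hz i k)
    have ei := congrArg (res (inf_le_left : W ≤ V i)) (he i)
    have ek := congrArg (res (inf_le_right : W ≤ V k)) (he k)
    simp only [map_sub, map_mul, appLE_res, res_appLE, appLE_cst, res_cst] at e0 ei ek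
    have h0 : cst g W π * (((σ j).appLE (c.D i ⊓ c.D k) W le_rfl).hom (z i k) - res inf_le_left (e i) +
        ((σ j).appLE (c.D i ⊓ c.D k) W le_rfl).hom (c.g i k) * res inf_le_right (e k)) = 0 := by
      linear_combination -e0 + ei - ((σ j).appLE (c.D i ⊓ c.D k) W le_rfl).hom (c.g i k) * ek + (cst g W b) * eT
    have h5 := appLE_eq_zero hann (HY₀ j) hW₀ h0
    have hsik : ((i₀ j).appLE W W₀ hW₀).hom (((σ j).appLE (c.D i ⊓ c.D k) W le_rfl).hom
        (res inf_le_left (s i) - c.g i k * res inf_le_right (s k))) = 0 := by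
      rw [hz, map_mul, appLE_cst, map_mul, cst_fibre_eq_zero (HY₀ j) hπ0, zero_mul]
    have hti := congrArg (fun w => ((i₀ j).appLE W W₀ hW₀).hom (((σ j).appLE (c.D i) W inf_le_left).hom w)) (ht i)
    have htk := congrArg (fun w => ((i₀ j).appLE W W₀ hW₀).hom (((σ j).appLE (c.D k) W inf_le_right).hom w)) (ht k)
    simp only [map_sub, map_add, map_mul, map_one, appLE_res] at h5 hsik hti htk
    simp only [W, appLE_res, appLE_appLE] at h5 hsik hti htk
    simp only [spull, h, map_mul, res_appLE, appLE_res, appLE_appLE, appLE_congr' (hsq j)]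
    have key : ∀ {R : Type u} [CommRing R] (z G si sk ti tk Ei Ek : R),
        si - G * sk = 0 → si * ti = 1 → sk * tk = 1 → z - Ei + G * Ek = 0 → z * ti = Ei * ti - Ek * tk := by
      intro R _ z G si sk ti tk Ei Ek h1 h2 h3 h4
      linear_combination ti * h4 + Ek * tk * ti * h1 - Ek * tk * h2 + Ek * G * ti * h3
    exact key _ _ _ _ _ _ _ _ hsik hti htk h5
  obtain ⟨v, hv⟩ := hH1 c.ι U (by rw [← Scheme.Hom.preimage_iSup, c.cover]; rfl) h hcoc hslice
  choose e he using fun i => j₀.app_surjective (c.D i) (haff i) (v i)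
  refine PthRoot26.triv_of_units (fun i => s i * (1 - cst f (c.D i) π * e i)) (fun i => ?_) fun i k O hi hk => ?_
  · refine (hsu i).mul (IsUnit.of_mul_eq_one (1 + cst f (c.D i) π * e i) ?_)
    have h2 : cst f (c.D i) π * cst f (c.D i) π = 0 := by rw [← map_mul, hππ, map_zero]
    linear_combination -(e i * e i) * h2
  · have hik := hzres i k O hi hk
    have hzero : (j₀.appLE O (j₀ ⁻¹ᵁ O) le_rfl).hom
        (res (le_inf hi hk) (z i k) - res hi (s i) * res hi (e i) + c.G i k hi hk * res hk (s k) * res hk (e k)) = 0 := by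
      have h1 := congrArg (res (show j₀ ⁻¹ᵁ O ≤ U i ⊓ U k from j₀.preimage_mono (le_inf hi hk))) (hv i k)
      rw [show v i = (j₀.appLE (c.D i) (U i) le_rfl).hom (e i) from
          (he i).symm.trans (by rw [Scheme.Hom.app_eq_appLE]),
        show v k = (j₀.appLE (c.D k) (U k) le_rfl).hom (e k) from
          (he k).symm.trans (by rw [Scheme.Hom.app_eq_appLE])] at h1
      have hsik : (j₀.appLE O (j₀ ⁻¹ᵁ O) le_rfl).hom (res hi (s i) - c.G i k hi hk * res hk (s k)) = 0 := by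
        rw [hik, map_mul, cst_fibre_eq_zero H₀ hπ0, zero_mul]
      have hti := congrArg (fun w => (j₀.appLE _ (j₀ ⁻¹ᵁ O) (j₀.preimage_mono hi)).hom w) (ht i)
      simp only [h, Cocycle.G, Scheme.Hom.app_eq_appLE, map_mul, map_add, map_sub, map_one, res_appLE, appLE_res]
        at h1 hsik hti ⊢
      have key : ∀ {R : Type u} [CommRing R] (z G si sk ti Ei Ek : R),
          z * ti = Ei - Ek → si - G * sk = 0 → si * ti = 1 → z - si * Ei + G * sk * Ek = 0 := by
        intro R _ z G si sk ti Ei Ek h1 h2 h3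
        linear_combination si * h1 - Ek * h2 - z * h3
      exact key _ _ _ _ _ _ _ h1 hsik hti
    have h3 := cst_mul_eq_zero hann H₀ hφ le_rfl le_rfl hzero
    simp only [map_mul, map_sub, map_one, res_cst]
    linear_combination hik + h3

end GrothLib.CubeRel26
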